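import Cfsg.Prelude.Def_GeometricClasses

/-!
# Prime divisors of the orders of the geometric subgroups of `GL ι F`

`F` a finite field, `s` a prime not dividing `|F|`.

* `exists_of_lin`     : a `K`-linear map of order `s` on `V` forces `s ∣ |K| ^ i - 1`, `1 ≤ i ≤ dim V`;
* `decomp`            : (C2) decomposition stabilisers;
* `extension`         : (C3) normalisers of fields of prime degree;
* `tensor`            : (C4) tensor products;
* `subfield`          : (C5) subfield groups.
-/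

set_option autoImplicit false

namespace Cfsg.Agent.H251.GeoCard

open Cfsg Cfsg.Geo Module
open scoped Matrix MatrixGroups Kronecker

/-- `s ∣ Q ^ i - 1` for some `1 ≤ i ≤ n`. -/
def Div (s Q n : ℕ) : Prop := ∃ i, 1 ≤ i ∧ i ≤ n ∧ s ∣ Q ^ i - 1

theorem Div.mono {s Q n m : ℕ} (h : Div s Q n) (hnm : n ≤ m) : Div s Q m := by
  obtain ⟨i, h1, h2, h3⟩ := h
  exact ⟨i, h1, h2.trans hnm, h3⟩

theorem div_one {s Q n : ℕ} (hn : 1 ≤ n) (h : s ∣ Q - 1) : Div s Q n :=
  ⟨1, le_rfl, hn, by rwa [pow_one]⟩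

/-- prime divisors of `|GL_n(K)|`. -/
theorem div_of_dvd_card_fin {K : Type*} [Field K] [Finite K] {n s : ℕ} (hs : s.Prime)
    (hK : ¬ s ∣ Nat.card K) (h : s ∣ Nat.card (GL (Fin n) K)) : Div s (Nat.card K) n := by
  have : Fintype K := Fintype.ofFinite K
  rw [Matrix.card_GL_field] at h
  obtain ⟨i, -, hi⟩ := (Prime.dvd_finsetProd_iff hs.prime _).1 h
  have h1 : Fintype.card K ^ n - Fintype.card K ^ (i : ℕ) =
      Fintype.card K ^ (i : ℕ) * (Fintype.card K ^ (n - i) - 1) := by
    rw [Nat.mul_sub, mul_one, ← pow_add, Nat.add_sub_cancel' i.2.le]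
  rw [h1] at hi
  rw [Nat.card_eq_fintype_card] at hK ⊢
  rcases hs.dvd_mul.1 hi with h2 | h2
  · exact absurd (hs.dvd_of_dvd_pow h2) hK
  · exact ⟨n - i, by omega, by omega, h2⟩

theorem div_of_dvd_card {ι : Type*} [Fintype ι] [DecidableEq ι] {K : Type*} [Field K] [Finite K] {s : ℕ}
    (hs : s.Prime) (hK : ¬ s ∣ Nat.card K) (h : s ∣ Nat.card (GL ι K)) :
    Div s (Nat.card K) (Fintype.card ι) := by
  have e : GL ι K ≃* GL (Fin (Fintype.card ι)) K :=
    Units.mapEquiv (Matrix.reindexAlgEquiv K K (Fintype.equivFin ι)).toMulEquiv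
  rw [Nat.card_congr e.toEquiv] at h
  exact div_of_dvd_card_fin hs hK h

/-- a linear map of prime order `s`. -/
theorem exists_of_lin {K V : Type*} [Field K] [Finite K] [AddCommGroup V] [Module K V] [Module.Finite K V]
    {s : ℕ} (hs : s.Prime) (hK : ¬ s ∣ Nat.card K) (f : V →ₗ[K] V) (hf : f ^ s = 1) (h1 : f ≠ 1) :
    Div s (Nat.card K) (finrank K V) := by
  classical
  let b := Module.finBasis K V
  let φ : (V →ₗ[K] V) ≃ₐ[K] Matrix (Fin (finrank K V)) (Fin (finrank K V)) K := LinearMap.toMatrixAlgEquiv b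
  have h2 : (φ f) ^ s = 1 := by rw [← map_pow, hf, map_one]
  have hs0 : s ≠ 0 := hs.ne_zero
  have hu : IsUnit (φ f) := IsUnit.of_pow_eq_one h2 hs0
  obtain ⟨g, hg⟩ := hu
  have hgs : g ^ s = 1 := by
    apply Units.ext
    rw [Units.val_pow_eq_pow_val, hg, h2, Units.val_one]
  have hg1 : g ≠ 1 := by
    rintro rfl
    apply h1
    apply φ.injective
    rw [← hg, map_one, Units.val_one]
  have hord : orderOf g = s := by
    have := Fact.mk hs
    exact orderOf_eq_prime hgs hg1
  have hfin : Finite (GL (Fin (finrank K V)) K) := inferInstance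
  apply div_of_dvd_card_fin hs hK
  rw [← hord]
  exact orderOf_dvd_natCard g

set_option linter.unusedSectionVars false

variable {ι : Type} [Fintype ι] [DecidableEq ι] {F : Type*} [Field F] [Fintype F]

/-- the multiplication map of an element of `GL`. -/
theorem toLin_pow (g : GL ι F) (k : ℕ) :
    (Matrix.toLin' ((g ^ k : GL ι F) : Matrix ι ι F)) = (Matrix.toLin' (g : Matrix ι ι F)) ^ k := by
  rw [Units.val_pow_eq_pow_val]
  exact map_pow (Matrix.toLinAlgEquiv' (R := F) (n := ι)) _ _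

/-- **(C2)** -/
theorem decomp {t m s : ℕ} {D : Fin t → Submodule F (ι → F)} (hD : IsMDecomposition m D) (hs : s.Prime)
    (hF : ¬ s ∣ Nat.card F) (h : s ∣ Nat.card (decompositionStabilizer D)) :
    s ≤ t ∨ Div s (Nat.card F) m := by
  classical
  have hfin : Finite (GL ι F) := inferInstance
  have := Fact.mk hs
  obtain ⟨g, hg⟩ := exists_prime_orderOf_dvd_card' s h
  by_contra hcon
  push Not at hcon
  obtain ⟨hst, hdiv⟩ := hcon
  obtain ⟨σ, hσ⟩ := g.2
  -- the subspaces are distinct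
  have hinj : Function.Injective D := by
    intro i j hij
    by_contra hne
    have h1 := hD.indep.pairwiseDisjoint hne
    have h2 : D i = ⊥ := by
      have h3 : Disjoint (D i) (D j) := h1
      rw [← hij, disjoint_self] at h3
      exact h3
    have h3 := hD.finrank_eq i
    rw [h2, finrank_bot] at h3
    have := hD.pos
    omega
  have hpow : ∀ (k : ℕ) (i : Fin t), (D i).map (Matrix.toLin' (((g : GL ι F) ^ k : GL ι F) : Matrix ι ι F)) =
      D ((σ ^ k) i) := by
    intro k
    induction k with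
    | zero =>
      intro i
      simp
    | succ k ih =>
      intro i
      rw [pow_succ', Units.val_mul, Matrix.toLin'_mul, Submodule.map_comp, ih, hσ, pow_succ']
      rfl
  have hgs : (g : GL ι F) ^ s = 1 := by
    rw [← Subgroup.coe_pow, ← hg, pow_orderOf_eq_one]; rfl
  have hσs : σ ^ s = 1 := by
    ext1 i
    apply hinj
    rw [← hpow, hgs]
    simp
  have hσ1 : σ = 1 := by
    by_contra hne
    have h1 : orderOf σ = s := orderOf_eq_prime hσs hne
    have h2 : s ∣ Nat.card (Equiv.Perm (Fin t)) := by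
      rw [← h1]; exact orderOf_dvd_natCard σ
    rw [Nat.card_eq_fintype_card, Fintype.card_perm, Fintype.card_fin, hs.dvd_factorial] at h2
    omega
  have hmap : ∀ i, ∀ x ∈ D i, Matrix.toLin' ((g : GL ι F) : Matrix ι ι F) x ∈ D i := by
    intro i x hx
    have h1 := hσ i
    rw [hσ1] at h1
    have h2 : Matrix.toLin' ((g : GL ι F) : Matrix ι ι F) x ∈ (D i).map (Matrix.toLin' ((g : GL ι F) : Matrix ι ι F)) :=
      Submodule.mem_map_of_mem hx
    rw [h1] at h2
    exact h2
  -- all restrictions are trivial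
  have hres : ∀ i, ∀ x ∈ D i, Matrix.toLin' ((g : GL ι F) : Matrix ι ι F) x = x := by
    intro i
    by_contra hcon
    push Not at hcon
    obtain ⟨x, hx, hne⟩ := hcon
    let f : D i →ₗ[F] D i := (Matrix.toLin' ((g : GL ι F) : Matrix ι ι F)).restrict (hmap i)
    have hf : f ^ s = 1 := by
      have h1 : ∀ (k : ℕ) (y : D i), (((f ^ k) y : D i) : ι → F) =
          ((Matrix.toLin' ((g : GL ι F) : Matrix ι ι F)) ^ k) (y : ι → F) := by
        intro k
        induction k with
        | zero => intro y; rfl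
        | succ k ih =>
          intro y
          rw [pow_succ, pow_succ, Module.End.mul_apply, Module.End.mul_apply, ih]
          rfl
      apply LinearMap.ext
      intro y
      apply Subtype.ext
      rw [h1, ← toLin_pow, hgs, Units.val_one, Matrix.toLin'_one]
      rfl
    have hf1 : f ≠ 1 := by
      intro h1
      apply hne
      have h2 := LinearMap.congr_fun h1 ⟨x, hx⟩
      exact congrArg Subtype.val h2
    have h1 := exists_of_lin hs hF f hf hf1
    rw [hD.finrank_eq i] at h1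
    exact hdiv h1
  have htop : ∀ x : ι → F, Matrix.toLin' ((g : GL ι F) : Matrix ι ι F) x = x := by
    have h1 : (⨆ i, D i) ≤ LinearMap.eqLocus (Matrix.toLin' ((g : GL ι F) : Matrix ι ι F)) LinearMap.id := by
      rw [iSup_le_iff]
      intro i x hx
      rw [LinearMap.mem_eqLocus]
      exact hres i x hx
    rw [hD.iSup_eq_top] at h1
    intro x
    exact h1 (Submodule.mem_top (x := x))
  have hg1 : (g : GL ι F) = 1 := by
    apply Units.ext
    apply Matrix.toLin'.injective
    apply LinearMap.ext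
    intro x
    rw [htop, Units.val_one, Matrix.toLin'_one]
    rfl
  have hg2 : g = 1 := Subtype.ext hg1
  rw [hg2, orderOf_one] at hg
  exact hs.one_lt.ne hg

/-- **(C4)** the Kronecker subgroup. -/
theorem kronecker_card_dvd (n₁ n₂ : ℕ) :
    Nat.card (kroneckerSubgroup n₁ n₂ F) ∣ Nat.card (GL (Fin n₁) F) * Nat.card (GL (Fin n₂) F) := by
  classical
  let f : GL (Fin n₁) F × GL (Fin n₂) F →* GL (Fin n₁ × Fin n₂) F :=
    { toFun := fun x => ⟨(x.1 : Matrix (Fin n₁) (Fin n₁) F) ⊗ₖ (x.2 : Matrix (Fin n₂) (Fin n₂) F),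
        ((x.1⁻¹ : GL (Fin n₁) F) : Matrix (Fin n₁) (Fin n₁) F) ⊗ₖ ((x.2⁻¹ : GL (Fin n₂) F) : Matrix (Fin n₂) (Fin n₂) F),
        by rw [← Matrix.mul_kronecker_mul, ← Units.val_mul, ← Units.val_mul, mul_inv_cancel, mul_inv_cancel,
            Units.val_one, Units.val_one, Matrix.one_kronecker_one],
        by rw [← Matrix.mul_kronecker_mul, ← Units.val_mul, ← Units.val_mul, inv_mul_cancel, inv_mul_cancel,
            Units.val_one, Units.val_one, Matrix.one_kronecker_one]⟩
      map_one' := Units.ext (by simp)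
      map_mul' := fun x y => Units.ext (by
        change ((x.1 * y.1 : GL (Fin n₁) F) : Matrix (Fin n₁) (Fin n₁) F) ⊗ₖ ((x.2 * y.2 : GL (Fin n₂) F) :
          Matrix (Fin n₂) (Fin n₂) F) = ((x.1 : Matrix (Fin n₁) (Fin n₁) F) ⊗ₖ (x.2 : Matrix (Fin n₂) (Fin n₂) F)) *
            ((y.1 : Matrix (Fin n₁) (Fin n₁) F) ⊗ₖ (y.2 : Matrix (Fin n₂) (Fin n₂) F))
        rw [Units.val_mul, Units.val_mul, Matrix.mul_kronecker_mul]) }
  have h1 : f.range = kroneckerSubgroup n₁ n₂ F := by
    ext g
    constructor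
    · rintro ⟨x, rfl⟩
      exact ⟨x.1, x.2, rfl⟩
    · rintro ⟨a, b, h⟩
      exact ⟨(a, b), Units.ext h.symm⟩
  rw [← h1, ← Nat.card_prod]
  exact Subgroup.card_range_dvd f

theorem tensor_card_dvd {n₁ n₂ : ℕ} (e : ι ≃ Fin n₁ × Fin n₂) (P : GL ι F) :
    Nat.card (tensorProductSubgroup n₁ n₂ e P) ∣ Nat.card (GL (Fin n₁) F) * Nat.card (GL (Fin n₂) F) := by
  have h1 : Nat.card (tensorProductSubgroup n₁ n₂ e P) ∣ Nat.card (kroneckerSubgroup n₁ n₂ F) := by
    rw [tensorProductSubgroup]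
    exact (Subgroup.card_map_dvd _ _).trans (Subgroup.card_map_dvd _ _)
  exact h1.trans (kronecker_card_dvd n₁ n₂)

/-- **(C4)** -/
theorem tensor {n₁ n₂ s : ℕ} (e : ι ≃ Fin n₁ × Fin n₂) (P : GL ι F) (hs : s.Prime)
    (hF : ¬ s ∣ Nat.card F) (h : s ∣ Nat.card (tensorProductSubgroup n₁ n₂ e P)) :
    Div s (Nat.card F) (max n₁ n₂) := by
  rcases hs.dvd_mul.1 (h.trans (tensor_card_dvd e P)) with h1 | h1
  · exact (div_of_dvd_card_fin hs hF h1).mono (le_max_left _ _)
  · exact (div_of_dvd_card_fin hs hF h1).mono (le_max_right _ _)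

/-- a subgroup times a central (normal) subgroup. -/
theorem card_sup_dvd {G : Type*} [Group G] (H N : Subgroup G) (hN : ∀ z ∈ N, ∀ g : G, z * g = g * z) :
    Nat.card (H ⊔ N : Subgroup G) ∣ Nat.card H * Nat.card N := by
  let f : H × N →* G :=
    { toFun := fun x => (x.1 : G) * x.2
      map_one' := by simp
      map_mul' := fun x y => by
        change ((x.1 * y.1 : H) : G) * ((x.2 * y.2 : N) : G) = (x.1 : G) * x.2 * ((y.1 : G) * y.2)
        rw [Subgroup.coe_mul, Subgroup.coe_mul, mul_assoc (x.1 : G) (y.1 : G),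
          ← mul_assoc (y.1 : G) (x.2 : G), ← hN _ x.2.2 (y.1 : G)]
        group }
  have h1 : f.range = H ⊔ N := by
    apply le_antisymm
    · rintro _ ⟨x, rfl⟩
      exact Subgroup.mul_mem_sup x.1.2 x.2.2
    · rw [sup_le_iff]
      constructor
      · intro x hx
        exact ⟨(⟨x, hx⟩, 1), by simp [f]⟩
      · intro x hx
        exact ⟨(1, ⟨x, hx⟩), by simp [f]⟩
  rw [← h1, ← Nat.card_prod]
  exact Subgroup.card_range_dvd f

theorem card_scalars_dvd : Nat.card (scalars ι F) ∣ Nat.card F - 1 := by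
  have h1 : Nat.card Fˣ = Nat.card F - 1 := Nat.card_units F
  rw [← h1]
  exact Subgroup.card_range_dvd _

theorem scalars_central {z : GL ι F} (hz : z ∈ scalars ι F) (g : GL ι F) : z * g = g * z := by
  obtain ⟨c, hc⟩ := (mem_scalars_iff z).1 hz
  apply Units.ext
  rw [Units.val_mul, Units.val_mul, hc, Matrix.smul_mul, Matrix.mul_smul, Matrix.one_mul, Matrix.mul_one]

/-- **(C5)** -/
theorem subfield_card_dvd (F₀ : Subfield F) (P : GL ι F) :
    Nat.card (subfieldSubgroup F₀ P) ∣ Nat.card (GL ι F₀) * (Nat.card F - 1) := by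
  have h1 : Nat.card (subfieldSubgroup F₀ P) ∣
      Nat.card ((Matrix.GeneralLinearGroup.map (n := ι) (F₀.subtype : F₀ →+* F)).range ⊔ scalars ι F : Subgroup (GL ι F)) := by
    rw [subfieldSubgroup]
    exact Subgroup.card_map_dvd _ _
  refine h1.trans ((card_sup_dvd _ _ fun z hz g => scalars_central hz g).trans ?_)
  exact mul_dvd_mul (Subgroup.card_range_dvd _) card_scalars_dvd

theorem subfield {F₀ : Subfield F} {P : GL ι F} {s : ℕ} (hs : s.Prime) (hF : ¬ s ∣ Nat.card F)
    (h : s ∣ Nat.card (subfieldSubgroup F₀ P)) :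
    s ∣ Nat.card F - 1 ∨ Div s (Nat.card F₀) (Fintype.card ι) := by
  have hF₀ : ¬ s ∣ Nat.card F₀ := by
    intro h1
    apply hF
    refine h1.trans ?_
    exact AddSubgroup.card_addSubgroup_dvd_card F₀.toSubring.toAddSubgroup
  rcases hs.dvd_mul.1 (h.trans (subfield_card_dvd F₀ P)) with h1 | h1
  · exact Or.inr (div_of_dvd_card hs hF₀ h1)
  · exact Or.inl h1

end Cfsg.Agent.H251.GeoCard
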