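import Cfsg.Agent.H251.Half

/-!
More on the concrete situation `Half`: `O₂(P) = E`, uniqueness of the `J(T)`-component in `P`.
-/

set_option autoImplicit false
set_option linter.unusedSectionVars false

namespace Cfsg.Agent.H251

open Cfsg Subgroup
open scoped Pointwise commutatorElement

variable {G : Type*} [Group G] [Finite G]

namespace Half

variable {T E P : Subgroup G} {e : ℕ}

theorem relIndex_E (h : Half T E P e) : E.relIndex T = 2 := by
  have h1 := card_mul_relIndex h.le
  rw [h.cT, h.cE] at h1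
  have := h.epos
  apply Nat.eq_of_mul_eq_mul_left (show 0 < 4 * e by omega)
  rw [h1]; ring

/-- `O₂(P) = E`. -/
theorem pCoreOf_eq (h : Half T E P e) : pCoreOf 2 P = E := by
  have h1 : E ≤ pCoreOf 2 P := le_pCoreOf h.E2 (h.le.trans h.le') h.nE
  have h2 : pCoreOf 2 P ≤ T := pCoreOf_le_of_isSylow h.sylow
  refine (Subgroup.eq_of_le_of_card_ge h1 ?_).symm
  by_contra hcon
  push Not at hcon
  have h3 := card_mul_relIndex h1
  have h4 := card_mul_relIndex h2
  rw [h.cE] at h3 hcon
  rw [h.cT] at h4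
  have h5 : E.relIndex (pCoreOf 2 P) * (pCoreOf 2 P).relIndex T = 2 := by
    exact (relIndex_mul_relIndex _ _ _ h1 h2).trans h.relIndex_E
  have h6 : E.relIndex (pCoreOf 2 P) ≠ 1 := by
    intro h6; rw [h6, mul_one] at h3; omega
  have h7 : (pCoreOf 2 P).relIndex T = 1 := by
    have h8 : E.relIndex (pCoreOf 2 P) ∣ 2 := ⟨_, h5.symm⟩
    rcases (Nat.dvd_prime Nat.prime_two).1 h8 with h9 | h9
    · exact absurd h9 h6
    · rw [h9] at h5; omega
  rw [h7, mul_one] at h4
  have h8 : pCoreOf 2 P = T := Subgroup.eq_of_le_of_card_ge h2 (by rw [h4, h.cT])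
  apply h.nT
  rw [← h8]
  exact le_normalizer_pCoreOf P

theorem three_dvd_oddGen (h : Half T E P e) : 3 ∣ Nat.card (oddGen P) := by
  rw [h.card_oddGen]; exact ⟨_, rfl⟩

theorem not_oddGen_le (h : Half T E P e) : ¬ oddGen P ≤ T := by
  intro h1
  have h2 := h.three_dvd_oddGen.trans (Subgroup.card_dvd_of_le h1)
  obtain ⟨n, hn⟩ := IsPGroup.iff_card.1 h.T2
  rw [hn] at h2
  have := Nat.Prime.dvd_of_dvd_pow Nat.prime_three h2
  omega

/-- The `J(T)`-component in `P` is unique. -/
theorem eq_oddGen (h : Half T E P e) (hJT : thompsonSubgroupOf 2 T = T) {K : Subgroup G}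
    (hK : IsJComponent T K) (hKP : K ≤ P) : K = oddGen P := by
  have hTn : T ≤ normalizer (K : Set G) := by
    have h6 := Lib.CoprimeCommutator.right_le_normalizer_commutator K (thompsonSubgroupOf 2 T)
    rw [hK.2.1, hJT] at h6
    exact h6
  have h3K : 3 ∣ Nat.card K := by
    have h4 := card_mul_relIndex (pCoreOf_le K)
    rw [hK.2.2.1] at h4
    exact ⟨_, by rw [← h4]; ring⟩
  have hP : K ⊔ T = P := h.eq_of_ge le_sup_right (sup_le hKP h.le')
    (h3K.trans (Subgroup.card_dvd_of_le le_sup_left))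
  have hPn : P ≤ normalizer (K : Set G) := by
    rw [← hP]; exact sup_le le_normalizer hTn
  apply le_antisymm
  · have h1 : K = oddGen K := hK.1.symm
    rw [h1]; exact oddGen_mono hKP
  · have h7 : K.relIndex P ∣ 8 * e := by
      have h8 := card_mul_relIndex hKP
      obtain ⟨m, hm⟩ := h3K
      rw [h.cP, hm] at h8
      exact ⟨m, by nlinarith⟩
    obtain ⟨n, hn'⟩ := IsPGroup.iff_card.1 h.T2
    rw [← h.cT, hn'] at h7
    exact oddGen_le_of_relIndex hPn h7

theorem card_wOf (h : Half T E P e) : Nat.card (wOf (oddGen P)) = 4 := by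
  obtain ⟨x, hxP, hx⟩ := h.exists_three
  rw [h.wOf_eq hxP hx, h.card_comm hxP hx]

theorem wOf_le (h : Half T E P e) : wOf (oddGen P) ≤ E := by
  obtain ⟨x, hxP, hx⟩ := h.exists_three
  rw [h.wOf_eq hxP hx]
  exact h.comm_le_E hxP

theorem wOf_el (h : Half T E P e) : IsElementaryAbelian 2 (wOf (oddGen P)) :=
  PLocal.ThompsonJ.isElementaryAbelian_mono h.el h.wOf_le

theorem wOf_two (h : Half T E P e) : IsPGroup 2 (wOf (oddGen P)) := h.E2.to_le h.wOf_le

theorem wOf_ne_bot (h : Half T E P e) : wOf (oddGen P) ≠ ⊥ := by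
  intro h1
  have h2 := h.card_wOf
  rw [h1, card_bot] at h2
  omega

theorem le_normalizer_wOf (_h : Half T E P e) : P ≤ normalizer (wOf (oddGen P) : Set G) := by
  have h1 : P ≤ normalizer (oddGen P : Set G) := le_normalizer_oddGen P
  exact le_normalizer_commutator
    (h1.trans ((normalizer_le_normalizer_pCoreOf _).trans (normalizer_le_normalizer_omegaCenterOf _)))
    h1

/-- `P` is its only maximal 2-local overgroup... if `P` is a maximal 2-local then `N_G(W_K) = P`. -/
theorem normalizer_wOf (h : Half T E P e) (hmax : IsMaximalTwoLocal P) :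
    normalizer (wOf (oddGen P) : Set G) = P :=
  hmax.2 _ (isTwoLocal_normalizer h.wOf_two h.wOf_ne_bot) h.le_normalizer_wOf

theorem mem_jComponentsZero (h : Half T E P e) (hJT : thompsonSubgroupOf 2 T = T)
    (hmax : IsMaximalTwoLocal P) : oddGen P ∈ jComponentsZero T := by
  refine ⟨h.isJComponent hJT, ?_⟩
  intro S' hS' hsyl
  rw [h.normalizer_wOf hmax] at hsyl
  rw [hJT] at hS'
  rw [← syl_eq_of_le h.sylow hsyl.2.1 hsyl.1 hS']

end Half

end Cfsg.Agent.H251
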