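import Cfsg.Agent.H251.FromStruct
import Cfsg.Agent.H251.HalfMore
import Cfsg.Agent.H252.ZNStruct

/-!
The structure theorem of `H252/ZNStruct` in the form `TData`.
-/

set_option autoImplicit false
set_option linter.unusedSectionVars false

namespace Cfsg.Agent.H251

open Cfsg Subgroup

variable {G : Type*} [Group G] [Finite G]

theorem cent_eq {U : Subgroup G} (h1 : centralizer (U : Set G) ≤ U)
    (h2 : IsElementaryAbelian 2 U) : centralizer (U : Set G) = U := by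
  refine le_antisymm h1 fun x hx => ?_
  rw [mem_centralizer_iff]
  intro y hy
  exact PLocal.ThompsonJ.isElementaryAbelian_comm h2 hy hx

theorem exists_tdata (hL : Cfsg.IsCharacteristicTwoType G)
    (hN : ∀ N : Subgroup G, Cfsg.IsTwoLocal N → Group.IsSolvable ↥N)
    (hZ : ∀ S : Sylow 2 G, Subgroup.centralizer (Cfsg.omegaCenterOf (S : Subgroup G) : Set G) ≤
      Subgroup.normalizer ((S : Subgroup G) : Set G)) (hO : Cfsg.pCore 2 G = ⊥) (S : Sylow 2 G)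
    (M : Subgroup G) (hM : Cfsg.IsTwoLocal M)
    (hMJ : Subgroup.normalizer (Cfsg.thompsonSubgroupOf 2 (S : Subgroup G) : Set G) ≤ M)
    (T : Subgroup G) (hT : T ∈ Cfsg.maxStraddlingTwoSubgroups M) :
    MSetup (S : Subgroup G) M ∧ ∃ (e : ℕ) (E₁ E₂ : Subgroup G), TData M T e E₁ E₂ := by
  refine ⟨⟨⟨hL, hN, hZ⟩, hO, sylow_isSylowTwoIn S, hM, hMJ⟩, ?_⟩
  obtain ⟨e, U₁, U₂, h⟩ := H252.ZNStruct.exists_ts hL hN hZ hO S hM hMJ hT
  have e₁ := H252.ZNCross.isElem_of h.dat.cross.elem₁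
  have e₂ := H252.ZNCross.isElem_of h.dat.cross.elem₂
  exact ⟨e, U₁, U₂, h.dat.he, h.dat.cross.ne, h.dat.cross.sup_eq.symm, h.dat.cross.jj_eq,
    ⟨e₁, h.dat.cross.card₁, cent_eq h.dat.cross.cent₁ e₁, h.dat.norm₁, h.dat.max₁⟩,
    ⟨e₂, h.dat.cross.card₂, cent_eq h.dat.cross.cent₂ e₂, h.dat.norm₂, h.dat.max₂⟩, h.all⟩

end Cfsg.Agent.H251
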