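import Cfsg.Agent.H251.ZN

/-!
Elementary facts on `T ∈ 𝒯*(M)` (`maxStraddlingTwoSubgroups M`).
-/

set_option autoImplicit false
set_option linter.unusedSectionVars false

namespace Cfsg.Agent.H251

open Cfsg Subgroup
open scoped Pointwise commutatorElement

variable {G : Type*} [Group G] [Finite G] {S M : Subgroup G}

/-- If `T ∈ 𝒯*(M)`, `J(T) ≤ U ∈ 𝒯(M)`, then `J(U) = J(T)`. -/
theorem J_eq_of_mem_straddling {T U : Subgroup G} (hT : T ∈ maxStraddlingTwoSubgroups M)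
    (hU : U ∈ straddlingTwoSubgroups M) (hJ : thompsonSubgroupOf 2 T ≤ U) :
    thompsonSubgroupOf 2 T = thompsonSubgroupOf 2 U := by
  obtain ⟨h1, h2⟩ := hT.2 U hU
  have h3 : maxElemAbelianOrder U = maxElemAbelianOrder T := le_antisymm h1 (a_le_of_J_le hJ)
  exact J_eq_of_le_of_card hJ h3.le (h2 h3).1

/-- Moreover `|U| ≤ |T|`. -/
theorem card_le_of_mem_straddling {T U : Subgroup G} (hT : T ∈ maxStraddlingTwoSubgroups M)
    (hU : U ∈ straddlingTwoSubgroups M) (hJ : thompsonSubgroupOf 2 T ≤ U) :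
    Nat.card U ≤ Nat.card T := by
  obtain ⟨h1, h2⟩ := hT.2 U hU
  have h3 : maxElemAbelianOrder U = maxElemAbelianOrder T := le_antisymm h1 (a_le_of_J_le hJ)
  refine (h2 h3).2 ?_
  rw [J_eq_of_mem_straddling hT hU hJ]

/-- If `T ∈ 𝒯*(M)`, `T ≤ U ∈ 𝒯(M)`, then `T = U`. -/
theorem eq_of_mem_straddling {T U : Subgroup G} (hT : T ∈ maxStraddlingTwoSubgroups M)
    (hU : U ∈ straddlingTwoSubgroups M) (hTU : T ≤ U) : T = U :=
  Subgroup.eq_of_le_of_card_ge hTU (card_le_of_mem_straddling hT hU ((J_le T).trans hTU))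

/-- `𝒯(M)` is closed under nontrivial subgroups. -/
theorem straddling_of_le {T U : Subgroup G} (hT : T ∈ straddlingTwoSubgroups M) (hUT : U ≤ T)
    (hU : U ≠ ⊥) : U ∈ straddlingTwoSubgroups M := by
  obtain ⟨h1, h2, h3, L, hL, hTL, hLM⟩ := hT
  exact ⟨h1.to_le hUT, hU, hUT.trans h3, L, hL, hUT.trans hTL, hLM⟩

/-- `N_G(J(T)) ≤ M` for `T ∈ 𝒯*(M)`. -/
theorem normalizer_J_le (h : MSetup S M) {T : Subgroup G} (hT : T ∈ maxStraddlingTwoSubgroups M) :
    normalizer (thompsonSubgroupOf 2 T : Set G) ≤ M := by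
  by_contra hcon
  obtain ⟨hTp, hT1, hTM, -⟩ := hT.1
  obtain ⟨m, hm, hTS⟩ := h.exists_le_cj hTp hTM
  have h' := h.conj hm
  set S' := cj m S with hS'
  have hJ2 : IsPGroup 2 (thompsonSubgroupOf 2 T) := hTp.to_le (J_le T)
  have hU : S' ⊓ normalizer (thompsonSubgroupOf 2 T : Set G) ∈ straddlingTwoSubgroups M := by
    refine ⟨h'.syl.2.1.to_le inf_le_left, ?_, inf_le_left.trans h'.S_le,
      normalizer (thompsonSubgroupOf 2 T : Set G), isTwoLocal_normalizer hJ2 (J_ne_bot hTp hT1),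
      inf_le_right, hcon⟩
    intro h1
    apply hT1
    rw [eq_bot_iff, ← h1]
    exact le_inf hTS (le_normalizer_J T)
  have h2 := eq_of_mem_straddling hT hU (le_inf hTS (le_normalizer_J T))
  rcases hTS.lt_or_eq with h3 | h3
  · have h4 := lt_normalizer_inf h'.syl.2.1 h3
    have h5 : S' ⊓ normalizer (T : Set G) ≤ T := by
      conv_rhs => rw [h2]
      exact inf_le_inf_left _ (normalizer_le_normalizer_J T)
    exact absurd h5 (not_le_of_gt h4)
  · apply hcon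
    rw [h3]
    exact h'.nJ

/-- Facts on a Sylow 2-subgroup `T₀ ≥ J(T)` of a 2-local `L ≰ M`, for `T ∈ 𝒯*(M)`. -/
theorem of_twoLocal (h : MSetup S M) {T : Subgroup G} (hT : T ∈ maxStraddlingTwoSubgroups M)
    {L : Subgroup G} (hL : IsTwoLocal L) (hLM : ¬ L ≤ M) {T₀ : Subgroup G}
    (hT₀ : IsSylowTwoIn T₀ L) (hJ : thompsonSubgroupOf 2 T ≤ T₀) :
    thompsonSubgroupOf 2 T = thompsonSubgroupOf 2 T₀ ∧ T₀ ∈ straddlingTwoSubgroups M ∧
      L ∈ jOvergroups T₀ := by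
  obtain ⟨hTp, hT1, hTM, -⟩ := hT.1
  have hN := normalizer_J_le h hT
  have hJ1 := J_ne_bot hTp hT1
  -- `U = N_{T₀}(J(T))`
  have hU : T₀ ⊓ normalizer (thompsonSubgroupOf 2 T : Set G) ∈ straddlingTwoSubgroups M := by
    refine ⟨hT₀.2.1.to_le inf_le_left, ?_, inf_le_right.trans hN, L, hL, inf_le_left.trans hT₀.1, hLM⟩
    intro h1
    apply hJ1
    rw [eq_bot_iff, ← h1]
    exact le_inf hJ le_normalizer
  have h2 := J_eq_of_mem_straddling hT hU (le_inf hJ le_normalizer)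
  have h3 : T₀ ⊓ normalizer (thompsonSubgroupOf 2 T : Set G) = T₀ := by
    rcases (inf_le_left : T₀ ⊓ normalizer (thompsonSubgroupOf 2 T : Set G) ≤ T₀).lt_or_eq with h4 | h4
    · have h5 := lt_normalizer_inf hT₀.2.1 h4
      exfalso
      apply not_le_of_gt h5
      refine le_inf inf_le_left (inf_le_right.trans ?_)
      have h6 := normalizer_le_normalizer_J (T₀ ⊓ normalizer (thompsonSubgroupOf 2 T : Set G))
      rwa [← h2] at h6
    · exact h4
  rw [h3] at h2 hU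
  refine ⟨h2, hU, hT₀, ?_, centralizer_pCoreOf_le h.zn.char2 hL⟩
  intro h4
  apply hLM
  have h5 : thompsonSubgroupOf 2 (pCoreOf 2 L) = thompsonSubgroupOf 2 T₀ :=
    J_eq_of_le h4 (pCoreOf_le_of_isSylow hT₀)
  calc L ≤ normalizer (pCoreOf 2 L : Set G) := le_normalizer_pCoreOf L
    _ ≤ normalizer (thompsonSubgroupOf 2 (pCoreOf 2 L) : Set G) := normalizer_le_normalizer_J _
    _ = normalizer (thompsonSubgroupOf 2 T : Set G) := by rw [h5, h2]
    _ ≤ M := hN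

/-- If `T ∈ 𝒯*(M)` lies in a 2-local `L ≰ M` then it is Sylow in `L`. -/
theorem sylow_of_twoLocal (h : MSetup S M) {T : Subgroup G} (hT : T ∈ maxStraddlingTwoSubgroups M)
    {L : Subgroup G} (hL : IsTwoLocal L) (hLM : ¬ L ≤ M) (hTL : T ≤ L) :
    IsSylowTwoIn T L ∧ L ∈ jOvergroups T := by
  obtain ⟨T₀, hT₀, hTT₀⟩ := exists_isSylowTwoIn_ge hT.1.1 hTL
  obtain ⟨-, h2, h3⟩ := of_twoLocal h hT hL hLM hT₀ ((J_le T).trans hTT₀)
  have h4 := eq_of_mem_straddling hT h2 hTT₀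
  rw [h4]
  exact ⟨hT₀, h3⟩

end Cfsg.Agent.H251
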