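import Cfsg.Agent.H251.Half
import Cfsg.Agent.H251.TStar

/-!
Consequences of the concrete structure (`TData`) of `T ∈ 𝒯*(M)` in a ZN-group of characteristic
2 type.
-/

set_option autoImplicit false
set_option linter.unusedSectionVars false

namespace Cfsg.Agent.H251

open Cfsg Subgroup
open scoped Pointwise commutatorElement

variable {G : Type*} [Group G] [Finite G]

/-- One of the two vertices of the amalgam. -/
structure Side (E : Subgroup G) (e : ℕ) : Prop where
  el : IsElementaryAbelian 2 E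
  card : Nat.card E = 4 * e
  cent : centralizer (E : Set G) = E
  cardN : Nat.card (normalizer (E : Set G)) = 24 * e
  max : IsMaximalTwoLocal (normalizer (E : Set G))

/-- The concrete structure at `T`. -/
structure TData (M T : Subgroup G) (e : ℕ) (E₁ E₂ : Subgroup G) : Prop where
  he : e = 1 ∨ e = 2
  ne : E₁ ≠ E₂
  eq : T = E₁ ⊔ E₂
  J : thompsonSubgroupOf 2 T = T
  s₁ : Side E₁ e
  s₂ : Side E₂ e
  all : ∀ X : Subgroup G, IsTwoLocal X → T ≤ X → ¬ X ≤ M →
    X = normalizer (E₁ : Set G) ∨ X = normalizer (E₂ : Set G)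

variable {S M T : Subgroup G} {e : ℕ} {E₁ E₂ : Subgroup G}

theorem TData.symm (d : TData M T e E₁ E₂) : TData M T e E₂ E₁ :=
  ⟨d.he, d.ne.symm, by rw [sup_comm]; exact d.eq, d.J, d.s₂, d.s₁, fun X h1 h2 h3 =>
    (d.all X h1 h2 h3).symm⟩

theorem TData.le₁ (d : TData M T e E₁ E₂) : E₁ ≤ T := by rw [d.eq]; exact le_sup_left

theorem TData.le₂ (d : TData M T e E₁ E₂) : E₂ ≤ T := by rw [d.eq]; exact le_sup_right

/-- The one-sided situation. -/
theorem half_of (h : MSetup S M) (hT : T ∈ maxStraddlingTwoSubgroups M) (d : TData M T e E₁ E₂)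
    (hTN : T ≤ normalizer (E₁ : Set G)) (hN : ¬ normalizer (E₁ : Set G) ≤ M) :
    Half T E₁ (normalizer (E₁ : Set G)) e := by
  obtain ⟨hsyl, -⟩ := sylow_of_twoLocal h hT d.s₁.max.1 hN hTN
  refine ⟨d.he, d.le₁, hTN, le_rfl, ?_, d.s₁.card, d.s₁.cardN, d.s₁.el, d.s₁.cent, ?_⟩
  · have h1 := card_mul_relIndex hsyl.1
    rw [d.s₁.cardN] at h1
    obtain ⟨n, hn⟩ := IsPGroup.iff_card.1 hsyl.2.1
    have hodd := hsyl.2.2
    -- `2^n * odd = 24 e`
    have h2 : (2 ^ n) ∣ 8 * e := by
      have h3 : (2 ^ n) ∣ (8 * e) * 3 := ⟨T.relIndex (normalizer (E₁ : Set G)), by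
        rw [← hn, h1]; ring⟩
      exact (Nat.Coprime.pow_left n (by norm_num)).dvd_of_dvd_mul_right h3
    have h4 : 8 * e ∣ 2 ^ n := by
      have h5 : 8 * e ∣ 2 ^ n * T.relIndex (normalizer (E₁ : Set G)) := by
        rw [← hn, h1]; exact ⟨3, by ring⟩
      have h6 : (8 * e).Coprime (T.relIndex (normalizer (E₁ : Set G))) := by
        have h7 : Nat.Coprime 2 (T.relIndex (normalizer (E₁ : Set G))) :=
          (Nat.coprime_two_left).2 hodd
        rcases d.he with h8 | h8
        · rw [h8]; exact Nat.Coprime.pow_left 3 h7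
        · rw [h8]; exact Nat.Coprime.pow_left 4 h7
      exact h6.dvd_of_dvd_mul_right h5
    rw [hn]
    exact Nat.dvd_antisymm h2 h4
  · intro hcon
    exact hN (hcon.trans ((normalizer_le_normalizer_J T).trans (normalizer_J_le h hT)))

/-- For a 2-local `X ≥ T`, `X ≰ M`: `X` is one of the two, up to symmetry the first one. -/
theorem exists_half (h : MSetup S M) (hT : T ∈ maxStraddlingTwoSubgroups M)
    (d : TData M T e E₁ E₂) {X : Subgroup G} (hX : IsTwoLocal X) (hTX : T ≤ X) (hXM : ¬ X ≤ M) :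
    ∃ E E' : Subgroup G, TData M T e E E' ∧ X = normalizer (E : Set G) ∧ Half T E X e ∧
      IsMaximalTwoLocal X := by
  rcases d.all X hX hTX hXM with rfl | rfl
  · exact ⟨E₁, E₂, d, rfl, half_of h hT d hTX hXM, d.s₁.max⟩
  · exact ⟨E₂, E₁, d.symm, rfl, half_of h hT d.symm hTX hXM, d.s₂.max⟩

/-! ### S2948 -/

theorem exists_isJComponent (h : MSetup S M) (hT : T ∈ maxStraddlingTwoSubgroups M)
    (d : TData M T e E₁ E₂) {X : Subgroup G} (hX : IsTwoLocal X) (hTX : T ≤ X) (hXM : ¬ X ≤ M) :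
    ∃ K : Subgroup G, IsJComponent T K ∧ K ≤ X := by
  obtain ⟨E, E', -, -, hh, -⟩ := exists_half h hT d hX hTX hXM
  exact ⟨oddGen X, hh.isJComponent d.J, oddGen_le X⟩

/-! ### S2949 -/

theorem exists_outside (h : MSetup S M) (hT : T ∈ maxStraddlingTwoSubgroups M)
    (d : TData M T e E₁ E₂) : (jComponentsOutside M T).Nonempty := by
  obtain ⟨-, -, -, X, hX, hTX, hXM⟩ := hT.1
  obtain ⟨E, E', -, -, hh, hmax⟩ := exists_half h hT d hX hTX hXM
  have hJ := hh.isJComponent d.J
  have hW2 : IsPGroup 2 (wOf (oddGen X)) :=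
    isPGroup_of_pow_two fun w hw => by rw [pow_two]; exact hJ.2.2.2.2.2 w hw
  have hW1 : wOf (oddGen X) ≠ ⊥ := by
    intro h1
    have h2 := hJ.2.2.2.2.1
    rw [h1, card_bot] at h2
    omega
  have hXn : X ≤ normalizer (wOf (oddGen X) : Set G) := by
    have h1 : X ≤ normalizer (oddGen X : Set G) := le_normalizer_oddGen X
    exact le_normalizer_commutator
      (h1.trans ((normalizer_le_normalizer_pCoreOf _).trans (normalizer_le_normalizer_omegaCenterOf _)))
      h1
  have hXW : normalizer (wOf (oddGen X) : Set G) = X :=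
    hmax.2 _ (isTwoLocal_normalizer hW2 hW1) hXn
  refine ⟨oddGen X, ⟨hJ, ?_⟩, ?_, ?_⟩
  · intro S' hS' hsyl
    rw [hXW] at hsyl
    rw [d.J] at hS'
    rw [← syl_eq_of_le hh.sylow hsyl.2.1 hsyl.1 hS']
  · intro hKM
    apply hXM
    rw [← hh.oddGen_sup_T]
    exact sup_le hKM hT.1.2.2.1
  · rw [hh.oddGen_sup_T]
    exact pCoreOf_ne_bot_of_isTwoLocal hX

/-! ### S2950 -/

/-- For `K ∈ 𝒦(M, T)`, `L = K T` is a maximal 2-local subgroup. -/
theorem exists_L (h : MSetup S M) (hT : T ∈ maxStraddlingTwoSubgroups M)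
    (d : TData M T e E₁ E₂) {K : Subgroup G} (hK : K ∈ jComponentsOutside M T) :
    ∃ E E' : Subgroup G, TData M T e E E' ∧ K ⊔ T = normalizer (E : Set G) ∧
      Half T E (K ⊔ T) e ∧ IsMaximalTwoLocal (K ⊔ T) ∧ K ⊔ T ≤ normalizer (K : Set G) := by
  obtain ⟨⟨hJ, hK0⟩, hKM, hO⟩ := hK
  set X := normalizer (pCoreOf 2 (K ⊔ T) : Set G) with hXdef
  have hX : IsTwoLocal X := isTwoLocal_normalizer (pCoreOf_isPGroup _) hO
  have hKTX : K ⊔ T ≤ X := le_normalizer_pCoreOf _
  have hXM : ¬ X ≤ M := fun h1 => hKM ((le_sup_left.trans hKTX).trans h1)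
  obtain ⟨E, E', d', hE, hh, hmax⟩ := exists_half h hT d hX (le_sup_right.trans hKTX) hXM
  have h3 : 3 ∣ Nat.card ↥(K ⊔ T) := by
    have h4 := card_mul_relIndex (pCoreOf_le K)
    rw [hJ.2.2.1] at h4
    have h5 : 3 ∣ Nat.card K := ⟨_, by rw [← h4]; ring⟩
    exact h5.trans (Subgroup.card_dvd_of_le le_sup_left)
  have hXeq : K ⊔ T = X := hh.eq_of_ge le_sup_right hKTX h3
  refine ⟨E, E', d', by rw [hXeq, hE], by rw [hXeq]; exact hh, by rw [hXeq]; exact hmax, ?_⟩
  refine sup_le le_normalizer ?_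
  have h6 := Lib.CoprimeCommutator.right_le_normalizer_commutator K (thompsonSubgroupOf 2 T)
  rw [hJ.2.1, d.J] at h6
  exact h6

theorem outside_unique (h : MSetup S M) (hT : T ∈ maxStraddlingTwoSubgroups M)
    (d : TData M T e E₁ E₂) {K : Subgroup G} (hK : K ∈ jComponentsOutside M T) :
    ∃ L : Subgroup G, IsMaximalTwoLocal L ∧ K ⊔ thompsonSubgroupOf 2 T ≤ L ∧
      (∀ L' : Subgroup G, IsMaximalTwoLocal L' → K ⊔ thompsonSubgroupOf 2 T ≤ L' → L' = L) ∧
      (K.subgroupOf L).IsSubnormal ∧ IsSylowTwoIn T L := by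
  obtain ⟨E, E', -, -, hh, hmax, hn⟩ := exists_L h hT d hK
  rw [d.J]
  refine ⟨K ⊔ T, hmax, le_rfl, fun L' hL' hle => hmax.2 L' hL'.1 hle, ?_, hh.sylow⟩
  exact (normal_subgroupOf_of_le_normalizer hn).isSubnormal

/-! ### S2951 -/

/-- `Ω₁(Z(T)) = E₁ ∩ E₂`. -/
theorem TData.omega (d : TData M T e E₁ E₂) : omegaCenterOf T = E₁ ⊓ E₂ := by
  ext x
  rw [mem_omegaCenterOf, Subgroup.mem_inf]
  constructor
  · rintro ⟨-, h1, -⟩
    constructor
    · rw [← d.s₁.cent]; exact centralizer_le (show (E₁ : Set G) ⊆ _ from d.le₁) h1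
    · rw [← d.s₂.cent]; exact centralizer_le (show (E₂ : Set G) ⊆ _ from d.le₂) h1
  · rintro ⟨h1, h2⟩
    refine ⟨d.le₁ h1, ?_, d.s₁.el.2 x h1⟩
    have h3 : T ≤ centralizer ({x} : Set G) := by
      rw [d.eq]
      refine sup_le ?_ ?_
      · intro y hy
        rw [mem_centralizer_iff]
        rintro z rfl
        exact PLocal.ThompsonJ.isElementaryAbelian_comm d.s₁.el h1 hy
      · intro y hy
        rw [mem_centralizer_iff]
        rintro z rfl
        exact PLocal.ThompsonJ.isElementaryAbelian_comm d.s₂.el h2 hy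
    rw [mem_centralizer_iff]
    intro y hy
    exact (mem_centralizer_iff.1 (h3 hy) x rfl).symm

theorem TData.card_inf (d : TData M T e E₁ E₂) (hcT : Nat.card T = 8 * e)
    (hn : T ≤ normalizer (E₁ : Set G)) : Nat.card ↥(E₁ ⊓ E₂) = 2 * e := by
  have h1 := card_sup_mul_card_inf (d.le₂.trans hn)
  rw [← d.eq, hcT, d.s₁.card, d.s₂.card] at h1
  have he : 0 < e := by rcases d.he with h | h <;> omega
  have h2 : 8 * e * Nat.card ↥(E₁ ⊓ E₂) = 8 * e * (2 * e) := by rw [h1]; ring
  exact Nat.eq_of_mul_eq_mul_left (by omega) h2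

/-- All involutions of `T` lie in `E₁ ∪ E₂`. -/
theorem TData.mem_or (d : TData M T e E₁ E₂) (hcT : Nat.card T = 8 * e)
    (hn : T ≤ normalizer (E₁ : Set G)) {t : G} (ht : t ∈ T) (ht2 : t ^ 2 = 1) :
    t ∈ E₁ ∨ t ∈ E₂ := by
  rw [d.eq, mem_sup_iff (d.le₂.trans hn)] at ht
  obtain ⟨a, ha, b, hb, rfl⟩ := ht
  by_cases hab : a * b = b * a
  · -- `b` commutes with `a`
    by_cases hb1 : b ∈ E₁
    · left; exact E₁.mul_mem ha hb1
    · right
      -- `a` centralizes `E₂ = (E₁ ∩ E₂)⟨b⟩`
      refine E₂.mul_mem ?_ hb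
      rw [← d.s₂.cent, mem_centralizer_iff]
      have hidx : (E₁ ⊓ E₂).relIndex E₂ = 2 := by
        have h1 := card_mul_relIndex (inf_le_right : E₁ ⊓ E₂ ≤ E₂)
        rw [d.card_inf hcT hn, d.s₂.card] at h1
        have he : 0 < e := by rcases d.he with h | h <;> omega
        apply Nat.eq_of_mul_eq_mul_left (show 0 < 2 * e by omega)
        rw [h1]; ring
      have hbn : b ∉ E₁ ⊓ E₂ := fun h => hb1 h.1
      intro y hy
      by_cases hy1 : y ∈ E₁
      · exact PLocal.ThompsonJ.isElementaryAbelian_comm d.s₁.el hy1 ha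
      · have h2 : y * b ∈ E₁ ⊓ E₂ := by
          rw [relIndex_eq_two_iff] at hidx
          obtain ⟨c, hc, hc'⟩ := hidx
          have hy' : y ∉ E₁ ⊓ E₂ := fun h => hy1 h.1
          have h3 : y * c ∈ E₁ ⊓ E₂ := by
            rcases hc' y hy with ⟨h, -⟩ | ⟨h, -⟩
            · exact h
            · exact absurd h hy'
          have h4 : b * c ∈ E₁ ⊓ E₂ := by
            rcases hc' b hb with ⟨h, -⟩ | ⟨h, -⟩
            · exact h
            · exact absurd h hbn
          have h5 := (E₁ ⊓ E₂).mul_mem h3 ((E₁ ⊓ E₂).inv_mem h4)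
          have h6 : y * c * (b * c)⁻¹ = y * b := by
            have hbb : b⁻¹ = b := by
              have := d.s₂.el.2 b hb
              rw [pow_two] at this
              exact inv_eq_of_mul_eq_one_left this
            calc y * c * (b * c)⁻¹ = y * b⁻¹ := by group
              _ = y * b := by rw [hbb]
          rwa [h6] at h5
        have h3 : y = (y * b) * b⁻¹ := by group
        have h4 : (y * b) * a = a * (y * b) :=
          PLocal.ThompsonJ.isElementaryAbelian_comm d.s₁.el h2.1 ha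
        have h5 : b⁻¹ * a = a * b⁻¹ := by
          calc b⁻¹ * a = b⁻¹ * (a * b) * b⁻¹ := by group
            _ = b⁻¹ * (b * a) * b⁻¹ := by rw [hab]
            _ = a * b⁻¹ := by group
        calc y * a = (y * b) * (b⁻¹ * a) := by group
          _ = (y * b) * (a * b⁻¹) := by rw [h5]
          _ = ((y * b) * a) * b⁻¹ := by group
          _ = (a * (y * b)) * b⁻¹ := by rw [h4]
          _ = a * y := by group
  · exfalso
    apply hab
    have ha2 : a * a = 1 := by rw [← pow_two]; exact d.s₁.el.2 a ha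
    have hb2 : b * b = 1 := by rw [← pow_two]; exact d.s₂.el.2 b hb
    have hab2 : a * b * (a * b) = 1 := by rw [← pow_two]; exact ht2
    calc a * b = (a * a) * a * b * (b * b) := by rw [ha2, hb2]; group
      _ = a * (a * (a * b) * b) * b := by group
      _ = b * a := by
        have h1 : (a * b)⁻¹ = a * b := inv_eq_of_mul_eq_one_left hab2
        have h2 : a⁻¹ = a := inv_eq_of_mul_eq_one_left ha2
        have h3 : b⁻¹ = b := inv_eq_of_mul_eq_one_left hb2
        calc a * (a * (a * b) * b) * b = (a * a) * (a * b) * (b * b) := by group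
          _ = a * b := by rw [ha2, hb2]; group
          _ = (a * b)⁻¹ := h1.symm
          _ = b⁻¹ * a⁻¹ := by group
          _ = b * a := by rw [h2, h3]

/-- `E₁`, `E₂` are the only elementary abelian subgroups of `T` of their order. -/
theorem TData.eq_or (d : TData M T e E₁ E₂) (hcT : Nat.card T = 8 * e)
    (hn : T ≤ normalizer (E₁ : Set G)) {F : Subgroup G} (hFT : F ≤ T)
    (hF : IsElementaryAbelian 2 F) (hcF : Nat.card F = 4 * e) : F = E₁ ∨ F = E₂ := by
  have key : F ≤ E₁ ∨ F ≤ E₂ := by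
    by_contra hcon
    push Not at hcon
    obtain ⟨h1, h2⟩ := hcon
    rw [SetLike.not_le_iff_exists] at h1 h2
    obtain ⟨x, hx, hx1⟩ := h1
    obtain ⟨y, hy, hy2⟩ := h2
    have hx2 := (d.mem_or hcT hn (hFT hx) (hF.2 x hx)).resolve_left hx1
    have hy1 := (d.mem_or hcT hn (hFT hy) (hF.2 y hy)).resolve_right hy2
    rcases d.mem_or hcT hn (hFT (F.mul_mem hx hy)) (hF.2 _ (F.mul_mem hx hy)) with h3 | h3
    · apply hx1
      have := E₁.mul_mem h3 (E₁.inv_mem hy1)
      rwa [mul_inv_cancel_right] at this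
    · apply hy2
      have := E₂.mul_mem (E₂.inv_mem hx2) h3
      rwa [inv_mul_cancel_left] at this
  rcases key with h1 | h1
  · left; exact Subgroup.eq_of_le_of_card_ge h1 (by rw [hcF, d.s₁.card])
  · right; exact Subgroup.eq_of_le_of_card_ge h1 (by rw [hcF, d.s₂.card])

/-- The last case. -/
theorem case_three (h : MSetup S M)
    (d : TData M T 2 E₁ E₂) (hTS : T < S)
    (hh : Half T E₁ (normalizer (E₁ : Set G)) 2) :
    (normalizer (E₁ : Set G) ⊓ centralizer (omegaCenterOf T : Set G)).relIndex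
      (normalizer (omegaCenterOf T : Set G)) = 2 := by
  set L := normalizer (E₁ : Set G) with hL
  obtain ⟨x, hxL, hx⟩ := hh.exists_three
  have hZcard : Nat.card (omegaCenterOf T) = 4 := by
    rw [d.omega, d.card_inf hh.cT hh.le']
  -- `Y = C_E(x)` of order 2
  set Y : Subgroup G := E₁ ⊓ centralizer (zpowers x : Set G) with hY
  have hYcard : Nat.card Y = 2 := by
    have h1 := Lib.ProductSet.card_mul_card_inf Y ⁅E₁, zpowers x⁆
    have h2 : ⁅E₁, zpowers x⁆ ≤ normalizer (Y : Set G) := by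
      refine (hh.comm_le_E hxL).trans (le_normalizer_of_forall_cj_le fun g hg => ?_)
      intro z hz
      rw [mem_cj] at hz
      have h3 : g⁻¹ * z * g = z := by
        have hzE : z ∈ E₁ := by
          have := E₁.mul_mem (E₁.mul_mem hg hz.1) (E₁.inv_mem hg)
          have h4 : g * (g⁻¹ * z * g) * g⁻¹ = z := by group
          rwa [h4] at this
        rw [mul_assoc, hh.comm hzE hg]; group
      rwa [h3] at hz
    have h3 := card_sup_mul_card_inf h2
    rw [hh.fix_sup hxL hx, hh.fix_inf hxL hx, card_bot, mul_one, hh.cE, hh.card_comm hxL hx] at h3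
    omega
  have hYn : L ≤ normalizer (Y : Set G) := by
    have h1 : Y = E₁ ⊓ centralizer ((E₁ ⊔ zpowers x : Subgroup G) : Set G) := by
      apply le_antisymm
      · intro y hy
        refine ⟨hy.1, ?_⟩
        have h2 : E₁ ⊔ zpowers x ≤ centralizer ({y} : Set G) := by
          refine sup_le ?_ ?_
          · intro z hz
            rw [mem_centralizer_iff]
            rintro w rfl
            exact hh.comm hy.1 hz
          · intro z hz
            rw [mem_centralizer_iff]
            rintro w rfl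
            exact (mem_centralizer_iff.1 hy.2 z hz).symm
        show y ∈ centralizer ((E₁ ⊔ zpowers x : Subgroup G) : Set G)
        rw [mem_centralizer_iff]
        intro z hz
        exact (mem_centralizer_iff.1 (h2 hz) y rfl).symm
      · exact inf_le_inf_left _ (centralizer_le (show (zpowers x : Set G) ⊆ _ from
          (le_sup_right : zpowers x ≤ E₁ ⊔ zpowers x)))
    rw [h1]
    refine le_normalizer_inf le_rfl (le_normalizer_centralizer ?_)
    refine le_normalizer_of_relIndex_two ?_ (hh.relIndex_sup hxL hx)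
    exact sup_le (hh.le.trans hh.le') (by rwa [zpowers_le])
  have hY2 : IsPGroup 2 Y := IsPGroup.of_card (n := 1) (by rw [hYcard, pow_one])
  have hY1 : Y ≠ ⊥ := by
    intro h1; rw [h1, card_bot] at hYcard; omega
  have hYL : normalizer (Y : Set G) = L :=
    d.s₁.max.2 _ (isTwoLocal_normalizer hY2 hY1) hYn
  -- `Y ≤ Z₀`
  have hYZ : Y ≤ omegaCenterOf T := by
    obtain ⟨y, hy, hy1, hyc⟩ := exists_fixed hh.T2 hY2 hY1 (hh.le'.trans hYn)
    have hyZ : y ∈ omegaCenterOf T := mem_omegaCenterOf.2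
      ⟨hh.le hy.1, hyc, hh.el.2 y hy.1⟩
    have h1 : zpowers y ≤ Y := by rwa [zpowers_le]
    have h2 : Nat.card (zpowers y) = 2 := by
      have h3 : Nat.card (zpowers y) ∣ 2 := by
        rw [← hYcard]; exact Subgroup.card_dvd_of_le h1
      rcases (Nat.dvd_prime Nat.prime_two).1 h3 with h4 | h4
      · rw [Subgroup.card_eq_one, zpowers_eq_bot] at h4
        exact absurd h4 hy1
      · exact h4
    have h3 : zpowers y = Y := Subgroup.eq_of_le_of_card_ge h1 (by rw [h2, hYcard])
    rw [← h3, zpowers_le]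
    exact hyZ
  have hCL : centralizer (omegaCenterOf T : Set G) ≤ L := by
    rw [← hYL]
    exact (centralizer_le (show (Y : Set G) ⊆ _ from hYZ)).trans (centralizer_le_normalizer _)
  have hTC : T ≤ centralizer (omegaCenterOf T : Set G) := le_centralizer_omegaCenterOf T
  have hCT : centralizer (omegaCenterOf T : Set G) = T := by
    have h3 : ¬ 3 ∣ Nat.card (centralizer (omegaCenterOf T : Set G)) := by
      intro h3
      have h4 := hh.eq_of_ge hTC hCL h3
      have h5 : omegaCenterOf T ≤ Y := by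
        refine le_inf (by rw [d.omega]; exact inf_le_left) ?_
        rw [le_centralizer_iff, zpowers_le, h4]
        exact hxL
      have h6 := Subgroup.card_le_of_le h5
      rw [hZcard, hYcard] at h6
      omega
    symm
    apply Subgroup.eq_of_le_of_card_ge hTC
    have h4 : Nat.card (centralizer (omegaCenterOf T : Set G)) ∣ 3 * 16 := by
      have h5 : Nat.card L = 3 * 16 := by rw [hh.cP]
      rw [← h5]
      exact Subgroup.card_dvd_of_le hCL
    have h5 : (Nat.card (centralizer (omegaCenterOf T : Set G))).Coprime 3 :=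
      ((Nat.Prime.coprime_iff_not_dvd Nat.prime_three).2 h3).symm
    have h6 := h5.dvd_of_dvd_mul_left h4
    rw [hh.cT]
    exact Nat.le_of_dvd (by norm_num) h6
  have hNT : normalizer (omegaCenterOf T : Set G) = normalizer (T : Set G) := by
    apply le_antisymm _ (normalizer_le_normalizer_omegaCenterOf T)
    have h1 : normalizer (omegaCenterOf T : Set G) ≤
        normalizer (centralizer (omegaCenterOf T : Set G) : Set G) :=
      le_normalizer_centralizer le_rfl
    rwa [hCT] at h1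
  have hLT : L ⊓ centralizer (omegaCenterOf T : Set G) = T := by
    rw [hCT]; exact inf_eq_right.2 hh.le'
  rw [hLT, hNT]
  -- `N_G(T) ∩ L = T`
  have hNL : normalizer (T : Set G) ⊓ L = T := by
    have h3 : ¬ 3 ∣ Nat.card ↥(normalizer (T : Set G) ⊓ L) := by
      intro h3
      have h4 := hh.eq_of_ge (le_inf le_normalizer hh.le') inf_le_right h3
      apply hh.nT
      rw [← h4]
      exact inf_le_left
    symm
    apply Subgroup.eq_of_le_of_card_ge (le_inf le_normalizer hh.le')
    have h4 : Nat.card ↥(normalizer (T : Set G) ⊓ L) ∣ 3 * 16 := by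
      have h5 : Nat.card L = 3 * 16 := by rw [hh.cP]
      rw [← h5]
      exact Subgroup.card_dvd_of_le inf_le_right
    have h5 : (Nat.card ↥(normalizer (T : Set G) ⊓ L)).Coprime 3 :=
      ((Nat.Prime.coprime_iff_not_dvd Nat.prime_three).2 h3).symm
    have h6 := h5.dvd_of_dvd_mul_left h4
    rw [hh.cT]
    exact Nat.le_of_dvd (by norm_num) h6
  -- `N_G(T)` permutes `E₁, E₂`
  have hperm : ∀ g ∈ normalizer (T : Set G), cj g E₁ = E₁ ∨ cj g E₁ = E₂ := by
    intro g hg
    have hgT : cj g T = T := cj_eq_self_iff.2 hg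
    refine d.eq_or hh.cT hh.le' ?_ ?_ ?_
    · rw [← hgT]; exact cj_mono d.le₁
    · exact PLocal.ThompsonJ.isElementaryAbelian_map d.s₁.el _
    · rw [card_cj, d.s₁.card]
  obtain ⟨a, haS, haT⟩ := SetLike.exists_of_lt (lt_normalizer_inf h.syl.2.1 hTS)
  rw [relIndex_eq_two_iff_exists_notMem_and']
  have hmem : ∀ g ∈ normalizer (T : Set G), cj g E₁ = E₁ → g ∈ T := by
    intro g hg hgE
    rw [← hNL]
    exact ⟨hg, cj_eq_self_iff.1 hgE⟩
  have hane : cj a E₁ = E₂ :=
    (hperm a haS.2).resolve_left fun h1 => haT (hmem a haS.2 h1)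
  refine ⟨a⁻¹, inv_mem haS.2, fun h1 => haT (inv_mem_iff.1 h1), ?_⟩
  intro b hb
  rcases hperm b hb with h1 | h1
  · right; exact hmem b hb h1
  · left
    refine hmem _ (mul_mem (inv_mem haS.2) hb) ?_
    rw [cj_mul, h1, ← hane, cj_inv_cj]

theorem outside_cases (h : MSetup S M) (hT : T ∈ maxStraddlingTwoSubgroups M)
    (d : TData M T e E₁ E₂) (hTS : T ≤ S) {K : Subgroup G} (hK : K ∈ jComponentsOutside M T)
    {L : Subgroup G} (hLmax : IsMaximalTwoLocal L) (hKL : K ⊔ thompsonSubgroupOf 2 T ≤ L) :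
    omegaCenterOf (thompsonSubgroupOf 2 T) ⊓ wOf K ≠ ⊥ ∧
      ((omegaCenterOf S = omegaCenterOf (thompsonSubgroupOf 2 T) ∧
          Nat.card (omegaCenterOf (thompsonSubgroupOf 2 T)) = 2) ∨
        (omegaCenterOf S = omegaCenterOf (thompsonSubgroupOf 2 T) ∧
          Nat.card (omegaCenterOf (thompsonSubgroupOf 2 T)) = 4 ∧ T = S) ∨
        (omegaCenterOf T = omegaCenterOf (thompsonSubgroupOf 2 T) ∧
          Nat.card (omegaCenterOf (thompsonSubgroupOf 2 T)) = 4 ∧
          (L ⊓ centralizer (omegaCenterOf (thompsonSubgroupOf 2 T) : Set G)).relIndex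
            (normalizer (omegaCenterOf (thompsonSubgroupOf 2 T) : Set G)) = 2)) := by
  obtain ⟨E, E', d', hE, hh, hmax, hn⟩ := exists_L h hT d hK
  rw [d.J] at hKL ⊢
  obtain rfl : L = K ⊔ T := hmax.2 L hLmax.1 hKL
  have hJ := hK.1.1
  refine ⟨?_, ?_⟩
  · have hW2 : IsPGroup 2 (wOf K) :=
      isPGroup_of_pow_two fun w hw => by rw [pow_two]; exact hJ.2.2.2.2.2 w hw
    have hW1 : wOf K ≠ ⊥ := by
      intro h1
      have h2 := hJ.2.2.2.2.1
      rw [h1, card_bot] at h2
      omega
    have hTW : T ≤ normalizer (wOf K : Set G) := by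
      have h1 : T ≤ normalizer (K : Set G) := le_sup_right.trans hn
      exact le_normalizer_commutator
        (h1.trans ((normalizer_le_normalizer_pCoreOf _).trans
          (normalizer_le_normalizer_omegaCenterOf _))) h1
    obtain ⟨w, hw, hw1, hwc⟩ := exists_fixed hh.T2 hW2 hW1 hTW
    have hWT : wOf K ≤ T := by
      have h1 : wOf K ≤ omegaCenterOf (pCoreOf 2 K) := by
        rw [wOf, commutator_le_iff_le_normalizer]
        exact (le_normalizer_pCoreOf K).trans (normalizer_le_normalizer_omegaCenterOf _)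
      exact h1.trans ((omegaCenterOf_le _).trans ((pCoreOf_mono_of_normal le_sup_left hn).trans
        (pCoreOf_le_of_isSylow hh.sylow)))
    intro h1
    apply hw1
    rw [← mem_bot, ← h1]
    refine ⟨mem_omegaCenterOf.2 ⟨hWT hw, hwc, ?_⟩, hw⟩
    rw [pow_two]; exact hJ.2.2.2.2.2 w hw
  · have hL2 := hmax.1
    have hZle : omegaCenterOf S ≤ omegaCenterOf T :=
      omegaCenterOf_le_of_char2 hTS hh.sylow (centralizer_pCoreOf_le h.zn.char2 hL2)
    have hcard : Nat.card (omegaCenterOf T) = 2 * e := by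
      rw [d'.omega, d'.card_inf hh.cT (hh.le'.trans (hE.le))]
    have hZ1 : omegaCenterOf S ≠ ⊥ :=
      omegaCenterOf_ne_bot h.syl.2.1 (sylow_ne_bot h.zn.char2 h.syl)
    rcases d.he with rfl | rfl
    · left
      rw [mul_one] at hcard
      refine ⟨Subgroup.eq_of_le_of_card_ge hZle ?_, hcard⟩
      rw [hcard]
      exact Nat.le_of_dvd Nat.card_pos (two_dvd_card (omegaCenterOf_isPGroup S) hZ1)
    · right
      rcases hTS.lt_or_eq with h1 | h1
      · right
        refine ⟨rfl, hcard, ?_⟩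
        have hh' := hh
        rw [hE] at hh' ⊢
        exact case_three h d' h1 hh'
      · left
        refine ⟨?_, hcard, h1⟩
        rw [h1]

end Cfsg.Agent.H251
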