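import Cfsg.Agent.H251.OddGen

/-!
The concrete situation: `E` elementary abelian of order `4e` (`e = 1, 2`), self-centralizing,
`P = N_G(E)` of order `24e`, `T` a subgroup of order `8e` of `P` with `E ≤ T`, not normal in `P`.
Then `O²(P)` is a `J(T)`-component (if `J(T) = T`).
-/

set_option autoImplicit false
set_option linter.unusedSectionVars false

namespace Cfsg.Agent.H251

open Cfsg Subgroup
open scoped Pointwise commutatorElement

variable {G : Type*} [Group G] [Finite G]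

/-- The concrete situation. -/
structure Half (T E P : Subgroup G) (e : ℕ) : Prop where
  he : e = 1 ∨ e = 2
  le : E ≤ T
  le' : T ≤ P
  nE : P ≤ normalizer (E : Set G)
  cT : Nat.card T = 8 * e
  cE : Nat.card E = 4 * e
  cP : Nat.card P = 24 * e
  el : IsElementaryAbelian 2 E
  cent : centralizer (E : Set G) = E
  nT : ¬ P ≤ normalizer (T : Set G)

namespace Half

variable {T E P : Subgroup G} {e : ℕ}

theorem epos (h : Half T E P e) : 0 < e := by rcases h.he with h | h <;> omega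

theorem comm (h : Half T E P e) {a b : G} (ha : a ∈ E) (hb : b ∈ E) : a * b = b * a :=
  PLocal.ThompsonJ.isElementaryAbelian_comm h.el ha hb

theorem E2 (h : Half T E P e) : IsPGroup 2 E := PLocal.ThompsonJ.isPGroup_of_isElementaryAbelian h.el

theorem T2 (h : Half T E P e) : IsPGroup 2 T := by
  rcases h.he with h1 | h1
  · exact IsPGroup.of_card (n := 3) (by rw [h.cT, h1]; norm_num)
  · exact IsPGroup.of_card (n := 4) (by rw [h.cT, h1]; norm_num)

theorem exists_three (h : Half T E P e) : ∃ x ∈ P, orderOf x = 3 := by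
  have h3 : Fact (Nat.Prime 3) := ⟨Nat.prime_three⟩
  have h1 : 3 ∣ Nat.card P := by rw [h.cP]; exact ⟨8 * e, by ring⟩
  obtain ⟨x, hx⟩ := exists_prime_orderOf_dvd_card' 3 h1
  exact ⟨x, x.2, by rw [← hx]; exact (orderOf_injective P.subtype P.subtype_injective x)⟩

theorem inf_zpowers (h : Half T E P e) {U : Subgroup G} (hU : IsPGroup 2 U) {x : G}
    (hx : orderOf x = 3) : U ⊓ zpowers x = ⊥ := by
  have h1 : (Nat.card U).Coprime (Nat.card (zpowers x)) := by
    rw [Nat.card_zpowers, hx]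
    obtain ⟨n, hn⟩ := IsPGroup.iff_card.1 hU
    rw [hn]
    exact Nat.Coprime.pow_left n (by norm_num)
  exact Subgroup.inf_eq_bot_of_coprime h1

/-- `E⟨x⟩` has order `12e`. -/
theorem card_sup (h : Half T E P e) {x : G} (hxP : x ∈ P) (hx : orderOf x = 3) :
    Nat.card ↥(E ⊔ zpowers x) = 12 * e := by
  have hxn : zpowers x ≤ normalizer (E : Set G) := by
    rw [zpowers_le]; exact h.nE hxP
  have h1 := card_sup_mul_card_inf hxn
  rw [h.inf_zpowers h.E2 hx, card_bot, mul_one, Nat.card_zpowers, hx, h.cE] at h1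
  omega

theorem relIndex_sup (h : Half T E P e) {x : G} (hxP : x ∈ P) (hx : orderOf x = 3) :
    (E ⊔ zpowers x).relIndex P = 2 := by
  have h1 : E ⊔ zpowers x ≤ P := sup_le (h.le.trans h.le') (by rwa [zpowers_le])
  have h2 := card_mul_relIndex h1
  rw [h.card_sup hxP hx, h.cP] at h2
  have := h.epos
  have h3 : 12 * e * (E ⊔ zpowers x).relIndex P = 12 * e * 2 := by rw [h2]; ring
  exact Nat.eq_of_mul_eq_mul_left (by omega) h3

theorem oddGen_le_sup (h : Half T E P e) {x : G} (hxP : x ∈ P) (hx : orderOf x = 3) :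
    oddGen P ≤ E ⊔ zpowers x := by
  have h1 : E ⊔ zpowers x ≤ P := sup_le (h.le.trans h.le') (by rwa [zpowers_le])
  exact oddGen_le_of_relIndex (k := 1)
    (le_normalizer_of_relIndex_two h1 (h.relIndex_sup hxP hx)) (by rw [h.relIndex_sup hxP hx]; norm_num)

theorem mem_oddGen (_h : Half T E P e) {x : G} (hxP : x ∈ P) (hx : orderOf x = 3) :
    x ∈ oddGen P := H251.mem_oddGen hxP (by rw [hx]; decide)

theorem sup_oddGen (h : Half T E P e) {x : G} (hxP : x ∈ P) (hx : orderOf x = 3) :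
    E ⊔ oddGen P = E ⊔ zpowers x := by
  refine le_antisymm (sup_le le_sup_left (h.oddGen_le_sup hxP hx)) (sup_le_sup_left ?_ _)
  rw [zpowers_le]; exact h.mem_oddGen hxP hx

/-- `|O²(P)| = 3 |E ∩ O²(P)|`. -/
theorem card_oddGen (h : Half T E P e) : Nat.card (oddGen P) = 3 * Nat.card ↥(E ⊓ oddGen P) := by
  obtain ⟨x, hxP, hx⟩ := h.exists_three
  have h1 := card_sup_mul_card_inf ((oddGen_le P).trans h.nE)
  rw [h.sup_oddGen hxP hx, h.card_sup hxP hx, h.cE] at h1
  have := h.epos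
  have h3 : 4 * e * Nat.card (oddGen P) = 4 * e * (3 * Nat.card ↥(E ⊓ oddGen P)) := by
    rw [← h1]; ring
  exact Nat.eq_of_mul_eq_mul_left (by omega) h3

theorem pCoreOf_oddGen (h : Half T E P e) : pCoreOf 2 (oddGen P) = E ⊓ oddGen P := by
  have hle : E ⊓ oddGen P ≤ pCoreOf 2 (oddGen P) :=
    le_pCoreOf (h.E2.to_le inf_le_left) inf_le_right
      (le_normalizer_inf ((oddGen_le P).trans h.nE) le_normalizer)
  refine (Subgroup.eq_of_le_of_card_ge hle ?_).symm
  have h1 := card_mul_relIndex (pCoreOf_le (oddGen P))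
  have h2 := card_mul_relIndex hle
  obtain ⟨n, hn⟩ := IsPGroup.iff_card.1 (pCoreOf_isPGroup (oddGen P))
  rw [h.card_oddGen, ← h2, mul_comm 3, mul_assoc] at h1
  have hpos : 0 < Nat.card ↥(E ⊓ oddGen P) := Nat.card_pos
  have h3 := Nat.eq_of_mul_eq_mul_left hpos h1
  -- `[O₂ : E ∩ K] * r = 3` with the first a power of 2
  have h4 : (E ⊓ oddGen P).relIndex (pCoreOf 2 (oddGen P)) ∣ 3 := ⟨_, by rw [h3]⟩
  rcases (Nat.dvd_prime Nat.prime_three).1 h4 with h5 | h5
  · rw [h5, mul_one] at h2; rw [h2]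
  · exfalso
    rw [h5] at h2
    have h6 : 3 ∣ 2 ^ n := by rw [← hn, ← h2]; exact ⟨_, mul_comm _ _⟩
    have := (Nat.Prime.dvd_of_dvd_pow Nat.prime_three h6)
    omega

theorem relIndex_pCoreOf (h : Half T E P e) : (pCoreOf 2 (oddGen P)).relIndex (oddGen P) = 3 := by
  have h1 := card_mul_relIndex (pCoreOf_le (oddGen P))
  rw [h.card_oddGen, h.pCoreOf_oddGen] at h1
  have hpos : 0 < Nat.card ↥(E ⊓ oddGen P) := Nat.card_pos
  rw [h.pCoreOf_oddGen]
  apply Nat.eq_of_mul_eq_mul_left hpos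
  rw [h1]; ring

/-- `T⟨x⟩ = P`, in the form: a subgroup of `P` containing `T` and of order divisible by 3 is `P`. -/
theorem eq_of_ge (h : Half T E P e) {X : Subgroup G} (hTX : T ≤ X) (hXP : X ≤ P)
    (h3 : 3 ∣ Nat.card X) : X = P := by
  apply Subgroup.eq_of_le_of_card_ge hXP
  have h1 : Nat.card T ∣ Nat.card X := Subgroup.card_dvd_of_le hTX
  have h2 : (Nat.card T).Coprime 3 := by
    obtain ⟨n, hn⟩ := IsPGroup.iff_card.1 h.T2
    rw [hn]
    exact Nat.Coprime.pow_left n (by norm_num)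
  have h4 := h2.mul_dvd_of_dvd_of_dvd h1 h3
  rw [h.cT] at h4
  rw [h.cP]
  have := Nat.le_of_dvd Nat.card_pos h4
  omega

theorem sup_T (h : Half T E P e) {x : G} (hxP : x ∈ P) (hx : orderOf x = 3) : T ⊔ zpowers x = P := by
  refine h.eq_of_ge le_sup_left (sup_le h.le' (by rwa [zpowers_le])) ?_
  have : Nat.card (zpowers x) = 3 := by rw [Nat.card_zpowers, hx]
  rw [← this]
  exact Subgroup.card_dvd_of_le le_sup_right

theorem oddGen_sup_T (h : Half T E P e) : oddGen P ⊔ T = P := by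
  obtain ⟨x, hxP, hx⟩ := h.exists_three
  refine le_antisymm (sup_le (oddGen_le P) h.le') ?_
  calc P = T ⊔ zpowers x := (h.sup_T hxP hx).symm
    _ ≤ oddGen P ⊔ T := sup_le le_sup_right (le_sup_of_le_left (by
      rw [zpowers_le]; exact h.mem_oddGen hxP hx))

theorem sylow (h : Half T E P e) : IsSylowTwoIn T P := by
  refine ⟨h.le', h.T2, ?_⟩
  have h1 := card_mul_relIndex h.le'
  rw [h.cT, h.cP] at h1
  have h2 : T.relIndex P = 3 := by
    have := h.epos
    apply Nat.eq_of_mul_eq_mul_left (show 0 < 8 * e by omega)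
    rw [h1]; ring
  rw [h2]; decide

theorem commutator_eq (h : Half T E P e) : ⁅oddGen P, T⁆ = oddGen P := by
  obtain ⟨x, hxP, hx⟩ := h.exists_three
  have hTn : T ≤ normalizer (oddGen P : Set G) := h.le'.trans (le_normalizer_oddGen P)
  have hle : ⁅oddGen P, T⁆ ≤ oddGen P := commutator_le_iff_le_normalizer.2 hTn
  refine le_antisymm hle ?_
  have hn : P ≤ normalizer ((⁅oddGen P, T⁆ : Subgroup G) : Set G) := by
    conv_lhs => rw [← h.oddGen_sup_T]
    exact sup_le (Lib.CoprimeCommutator.left_le_normalizer_commutator _ _)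
      (Lib.CoprimeCommutator.right_le_normalizer_commutator _ _)
  -- 3 divides the order of the commutator
  have h3 : 3 ∣ Nat.card (⁅oddGen P, T⁆ : Subgroup G) := by
    by_contra hcon
    have hcard : Nat.card (⁅oddGen P, T⁆ : Subgroup G) ∣ 3 * (8 * e) := by
      have : 3 * (8 * e) = Nat.card P := by rw [h.cP]; ring
      rw [this]
      exact Subgroup.card_dvd_of_le (hle.trans (oddGen_le P))
    have hcop : (Nat.card (⁅oddGen P, T⁆ : Subgroup G)).Coprime 3 :=
      ((Nat.Prime.coprime_iff_not_dvd Nat.prime_three).2 hcon).symm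
    have h4 := hcop.dvd_of_dvd_mul_left hcard
    have h5 : IsPGroup 2 (⁅oddGen P, T⁆ : Subgroup G) := by
      obtain ⟨n, hn⟩ := IsPGroup.iff_card.1 h.T2
      rw [← h.cT, hn] at h4
      obtain ⟨m, -, hm⟩ := (Nat.dvd_prime_pow Nat.prime_two).1 h4
      exact IsPGroup.of_card hm
    have h6 : ⁅oddGen P, T⁆ ≤ E := by
      have := le_pCoreOf h5 hle ((oddGen_le P).trans hn)
      rw [h.pCoreOf_oddGen] at this
      exact this.trans inf_le_left
    apply h.nT
    conv_lhs => rw [← h.sup_T hxP hx]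
    refine sup_le le_normalizer ?_
    rw [← commutator_le_iff_le_normalizer, commutator_comm]
    refine (commutator_mono ?_ le_rfl).trans (h6.trans h.le)
    rw [zpowers_le]; exact h.mem_oddGen hxP hx
  have h7 : (⁅oddGen P, T⁆ : Subgroup G).relIndex P ∣ 8 * e := by
    have h8 := card_mul_relIndex (hle.trans (oddGen_le P))
    obtain ⟨m, hm⟩ := h3
    rw [h.cP, hm] at h8
    exact ⟨m, by nlinarith⟩
  obtain ⟨n, hn'⟩ := IsPGroup.iff_card.1 h.T2
  rw [← h.cT, hn'] at h7
  exact oddGen_le_of_relIndex hn h7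

/-! ### the four-group `[E, x]` -/

theorem coprime_E (h : Half T E P e) {x : G} (hx : orderOf x = 3) :
    (Nat.card (zpowers x)).Coprime (Nat.card E) := by
  rw [Nat.card_zpowers, hx, h.cE]
  rcases h.he with h1 | h1 <;> rw [h1] <;> norm_num

theorem zpowers_le_nE (h : Half T E P e) {x : G} (hxP : x ∈ P) :
    zpowers x ≤ normalizer (E : Set G) := by
  rw [zpowers_le]; exact h.nE hxP

theorem fix_inf (h : Half T E P e) {x : G} (hxP : x ∈ P) (hx : orderOf x = 3) :
    (E ⊓ centralizer (zpowers x : Set G)) ⊓ ⁅E, zpowers x⁆ = ⊥ :=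
  Lib.CoprimeAbelian.inf_commutator_eq_bot _ _ (fun _ ha _ hb => h.comm ha hb)
    (h.zpowers_le_nE hxP) (h.coprime_E hx)

theorem fix_sup (h : Half T E P e) {x : G} (hxP : x ∈ P) (hx : orderOf x = 3) :
    (E ⊓ centralizer (zpowers x : Set G)) ⊔ ⁅E, zpowers x⁆ = E :=
  Lib.CoprimeAbelian.sup_commutator_eq _ _ (fun _ ha _ hb => h.comm ha hb)
    (h.zpowers_le_nE hxP) (h.coprime_E hx)

theorem comm_le_E (h : Half T E P e) {x : G} (hxP : x ∈ P) : ⁅E, zpowers x⁆ ≤ E :=
  commutator_le_iff_le_normalizer.2 (h.zpowers_le_nE hxP)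

theorem card_comm (h : Half T E P e) {x : G} (hxP : x ∈ P) (hx : orderOf x = 3) :
    Nat.card (⁅E, zpowers x⁆ : Subgroup G) = 4 := by
  have h3 : Fact (Nat.Prime 3) := ⟨Nat.prime_three⟩
  have h1 : Nat.card (⁅E, zpowers x⁆ : Subgroup G) ≡ 1 [MOD 3] := by
    apply card_modEq_one (A := zpowers x)
    · exact IsPGroup.of_card (n := 1) (by rw [Nat.card_zpowers, hx]; norm_num)
    · exact Lib.CoprimeCommutator.right_le_normalizer_commutator _ _
    · rw [eq_bot_iff, ← h.fix_inf hxP hx]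
      intro y hy
      exact ⟨⟨h.comm_le_E hxP hy.1, hy.2⟩, hy.1⟩
  have h2 : Nat.card (⁅E, zpowers x⁆ : Subgroup G) ∣ 4 * e := by
    rw [← h.cE]; exact Subgroup.card_dvd_of_le (h.comm_le_E hxP)
  have h4 : Nat.card (⁅E, zpowers x⁆ : Subgroup G) ≠ 1 := by
    intro h5
    rw [Subgroup.card_eq_one] at h5
    have h6 : zpowers x ≤ centralizer (E : Set G) := by
      rw [commutator_comm, commutator_eq_bot_iff_le_centralizer] at h5
      exact h5
    rw [h.cent] at h6
    have h7 := h.inf_zpowers h.E2 hx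
    rw [inf_eq_right.2 h6] at h7
    rw [zpowers_eq_bot] at h7
    rw [h7, orderOf_one] at hx
    omega
  have h5 : Nat.card (⁅E, zpowers x⁆ : Subgroup G) ∣ 8 := by
    rcases h.he with h6 | h6
    · rw [h6] at h2; exact h2.trans (by norm_num)
    · rw [h6] at h2; exact h2
  have h6 : Nat.card (⁅E, zpowers x⁆ : Subgroup G) ∈ Nat.divisors 8 := by
    rw [Nat.mem_divisors]; exact ⟨h5, by norm_num⟩
  have h7 : Nat.divisors 8 = {1, 2, 4, 8} := by decide
  rw [h7] at h6
  simp only [Finset.mem_insert, Finset.mem_singleton] at h6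
  rcases h6 with h8 | h8 | h8 | h8
  · exact absurd h8 h4
  · rw [h8] at h1; exact absurd h1 (by decide)
  · exact h8
  · rw [h8] at h1; exact absurd h1 (by decide)

/-- `[E, O²(P)] = [E, x]`. -/
theorem comm_oddGen (h : Half T E P e) {x : G} (hxP : x ∈ P) (hx : orderOf x = 3) :
    ⁅E, oddGen P⁆ ≤ ⁅E, zpowers x⁆ := by
  rw [commutator_le]
  intro a ha g hg
  have hg' := h.oddGen_le_sup hxP hx hg
  rw [mem_sup_iff (h.zpowers_le_nE hxP)] at hg'
  obtain ⟨b, hb, y, hy, rfl⟩ := hg'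
  have h1 : ⁅a, b * y⁆ = ⁅a, b⁆ * (b * ⁅a, y⁆ * b⁻¹) := by
    simp only [commutatorElement_def]; group
  have h2 : ⁅a, b⁆ = 1 := commutatorElement_eq_one_iff_mul_comm.2 (h.comm ha hb)
  have h3 : ⁅a, y⁆ ∈ E := h.comm_le_E hxP (commutator_mem_commutator ha hy)
  have h4 : b * ⁅a, y⁆ * b⁻¹ = ⁅a, y⁆ := by rw [h.comm hb h3]; group
  rw [h1, h2, one_mul, h4]
  exact commutator_mem_commutator ha hy

theorem omegaCenterOf_eq {X : Subgroup G} (hX : IsElementaryAbelian 2 X) : omegaCenterOf X = X := by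
  refine le_antisymm (omegaCenterOf_le X) fun x hx => ?_
  rw [mem_omegaCenterOf]
  refine ⟨hx, ?_, hX.2 x hx⟩
  rw [mem_centralizer_iff]
  intro y hy
  exact PLocal.ThompsonJ.isElementaryAbelian_comm hX hy hx

theorem wOf_eq (h : Half T E P e) {x : G} (hxP : x ∈ P) (hx : orderOf x = 3) :
    wOf (oddGen P) = ⁅E, zpowers x⁆ := by
  have hxK : zpowers x ≤ oddGen P := by rw [zpowers_le]; exact h.mem_oddGen hxP hx
  rw [wOf, h.pCoreOf_oddGen,
    omegaCenterOf_eq (PLocal.ThompsonJ.isElementaryAbelian_mono h.el inf_le_left)]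
  refine le_antisymm ((commutator_mono inf_le_left le_rfl).trans (h.comm_oddGen hxP hx)) ?_
  have h1 : ⁅E, zpowers x⁆ ≤ E ⊓ oddGen P := by
    refine le_inf (h.comm_le_E hxP) ?_
    refine (commutator_mono (h.le.trans h.le') hxK).trans ?_
    rw [commutator_comm]
    exact commutator_le_iff_le_normalizer.2 (le_normalizer_oddGen P)
  calc ⁅E, zpowers x⁆ = ⁅⁅E, zpowers x⁆, zpowers x⁆ :=
        (Lib.CoprimeCommutator.commutator_commutator_eq _ _ (h.zpowers_le_nE hxP)
          (h.coprime_E hx)).symm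
    _ ≤ ⁅E ⊓ oddGen P, oddGen P⁆ := commutator_mono h1 hxK

theorem isJComponent (h : Half T E P e) (hJ : thompsonSubgroupOf 2 T = T) :
    IsJComponent T (oddGen P) := by
  obtain ⟨x, hxP, hx⟩ := h.exists_three
  refine ⟨oddGen_oddGen P, by rw [hJ]; exact h.commutator_eq, h.relIndex_pCoreOf, ?_, ?_, ?_⟩
  · rw [hJ, h.oddGen_sup_T]
    intro S hS hTS
    rw [← h.sylow.2.1.to_le le_rfl |> fun _ => syl_eq_of_le h.sylow hS.2.1 hS.1 hTS, hJ]
  · rw [h.wOf_eq hxP hx, h.card_comm hxP hx]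
  · rw [h.wOf_eq hxP hx]
    intro w hw
    rw [← pow_two]
    exact h.el.2 w (h.comm_le_E hxP hw)

end Half

end Cfsg.Agent.H251
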