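import Cfsg.Agent.H251.JBasic

/-!
Sylow 2-subgroups of subgroups (`IsSylowTwoIn`), `O₂(L)` (`pCoreOf 2 L`) as subgroups of `G`.
-/

set_option autoImplicit false
set_option linter.unusedSectionVars false

namespace Cfsg.Agent.H251

open Cfsg Subgroup
open scoped Pointwise commutatorElement

variable {G : Type*} [Group G]

instance fact_two : Fact (Nat.Prime 2) := ⟨Nat.prime_two⟩

/-! ### normalizers -/

/-- A characteristic subgroup of `H` is normalized by the normalizer of `H`. -/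
theorem normalizer_le_normalizer_map (H : Subgroup G) (C : Subgroup H)
    (hC : C.Characteristic) :
    normalizer (H : Set G) ≤ normalizer ((C.map H.subtype : Subgroup G) : Set G) := by
  intro g hg
  let e : MulAut H := H.normalizerMonoidHom ⟨g, hg⟩
  have h1 : C.map e.toMonoidHom = C := (Subgroup.characteristic_iff_map_eq.1 hC) e
  refine Subgroup.mem_normalizer_iff_map_conj_eq.2 ?_
  have h2 : (MulAut.conj g : G →* G).comp H.subtype = H.subtype.comp e.toMonoidHom := by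
    ext x
    rfl
  rw [Subgroup.map_map, h2, ← Subgroup.map_map, h1]

theorem normal_subgroupOf_of_le_normalizer {H K : Subgroup G} (h : K ≤ normalizer (H : Set G)) :
    (H.subgroupOf K).Normal := by
  constructor
  intro n hn g
  rw [mem_subgroupOf] at hn ⊢
  have := (Subgroup.mem_normalizer_iff.1 (h g.2) n).1 hn
  simpa using this

theorem le_normalizer_of_normal_subgroupOf {H K : Subgroup G} (hHK : H ≤ K)
    (h : (H.subgroupOf K).Normal) : K ≤ normalizer (H : Set G) := by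
  apply le_normalizer_of_forall_cj_le
  rintro g hg x hx
  rw [mem_cj] at hx
  have := h.conj_mem ⟨g⁻¹ * x * g, hHK hx⟩ (by rw [mem_subgroupOf]; exact hx) ⟨g, hg⟩
  rw [mem_subgroupOf] at this
  have h2 : (((⟨g, hg⟩ : K) * ⟨g⁻¹ * x * g, hHK hx⟩ * (⟨g, hg⟩ : K)⁻¹ : K) : G) = x := by
    simp only [coe_mul, coe_inv]; group
  rwa [h2] at this

theorem normalizer_inf_le (H K : Subgroup G) :
    normalizer (H : Set G) ⊓ normalizer (K : Set G) ≤ normalizer ((H ⊓ K : Subgroup G) : Set G) := by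
  intro g hg
  rw [← cj_eq_self_iff, cj_inf, cj_eq_self_iff.2 hg.1, cj_eq_self_iff.2 hg.2]

theorem le_normalizer_inf {H K L : Subgroup G} (h1 : L ≤ normalizer (H : Set G))
    (h2 : L ≤ normalizer (K : Set G)) : L ≤ normalizer ((H ⊓ K : Subgroup G) : Set G) :=
  (le_inf h1 h2).trans (normalizer_inf_le H K)

theorem le_normalizer_sup {H K L : Subgroup G} (h1 : L ≤ normalizer (H : Set G))
    (h2 : L ≤ normalizer (K : Set G)) : L ≤ normalizer ((H ⊔ K : Subgroup G) : Set G) := by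
  rw [le_normalizer_iff_forall_cj] at *
  intro g hg
  rw [cj_sup, h1 g hg, h2 g hg]

theorem le_normalizer_commutator {H K L : Subgroup G} (h1 : L ≤ normalizer (H : Set G))
    (h2 : L ≤ normalizer (K : Set G)) : L ≤ normalizer ((⁅H, K⁆ : Subgroup G) : Set G) := by
  rw [le_normalizer_iff_forall_cj] at *
  intro g hg
  rw [cj_commutator, h1 g hg, h2 g hg]

theorem le_normalizer_centralizer {H L : Subgroup G} (h1 : L ≤ normalizer (H : Set G)) :
    L ≤ normalizer ((centralizer (H : Set G) : Subgroup G) : Set G) := by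
  rw [le_normalizer_iff_forall_cj] at *
  intro g hg
  rw [cj_centralizer, h1 g hg]

theorem le_normalizer_iSup {ι : Sort*} {H : ι → Subgroup G} {L : Subgroup G}
    (h : ∀ i, L ≤ normalizer (H i : Set G)) : L ≤ normalizer ((⨆ i, H i : Subgroup G) : Set G) := by
  rw [le_normalizer_iff_forall_cj]
  intro g hg
  show (⨆ i, H i).map _ = _
  rw [Subgroup.map_iSup]
  exact iSup_congr fun i => (le_normalizer_iff_forall_cj.1 (h i)) g hg

/-- `⁅H, K⁆ ≤ H` iff `K` normalizes `H`. -/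
theorem commutator_le_iff_le_normalizer {H K : Subgroup G} :
    ⁅H, K⁆ ≤ H ↔ K ≤ normalizer (H : Set G) := by
  constructor
  · intro h
    apply le_normalizer_of_forall_cj_le
    intro g hg x hx
    rw [mem_cj] at hx
    have h1 := h (Subgroup.commutator_mem_commutator (H.inv_mem hx) hg)
    have h3 := H.mul_mem hx h1
    have h4 : g⁻¹ * x * g * ⁅(g⁻¹ * x * g)⁻¹, g⁆ = x := by
      rw [commutatorElement_def]; group
    rwa [h4] at h3
  · intro h
    exact (Subgroup.le_normalizer_iff_commutator_le_left).1 h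

/-! ### Sylow 2-subgroups of subgroups -/

section sylow

variable [Finite G]

theorem isSylowTwoIn_top {S : Subgroup G} : IsSylowTwoIn S ⊤ ↔ ∃ P : Sylow 2 G, (P : Subgroup G) = S := by
  constructor
  · rintro ⟨-, h2, h3⟩
    rw [relIndex_top_right] at h3
    refine ⟨h2.toSylow ?_, rfl⟩
    intro h4
    exact (Nat.not_even_iff_odd.2 h3) (even_iff_two_dvd.2 h4)
  · rintro ⟨P, rfl⟩
    refine ⟨le_top, P.isPGroup', ?_⟩
    rw [relIndex_top_right]
    rw [← Nat.not_even_iff_odd, even_iff_two_dvd]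
    exact P.not_dvd_index

theorem isSylowTwoIn_iff {T L : Subgroup G} :
    IsSylowTwoIn T L ↔ ∃ P : Sylow 2 L, (P : Subgroup L).map L.subtype = T := by
  constructor
  · rintro ⟨h1, h2, h3⟩
    have h4 : IsPGroup 2 (T.subgroupOf L) := h2.comap_of_injective _ L.subtype_injective
    refine ⟨h4.toSylow ?_, ?_⟩
    · intro h5
      rw [relIndex] at h3
      exact (Nat.not_even_iff_odd.2 h3) (even_iff_two_dvd.2 h5)
    · rw [IsPGroup.toSylow_coe, subgroupOf_map_subtype, inf_eq_left.2 h1]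
  · rintro ⟨P, rfl⟩
    refine ⟨map_subtype_le _, P.isPGroup'.map _, ?_⟩
    rw [relIndex, subgroupOf, comap_map_eq_self_of_injective L.subtype_injective]
    rw [← Nat.not_even_iff_odd, even_iff_two_dvd]
    exact P.not_dvd_index

/-- Every 2-subgroup of `L` lies in a Sylow 2-subgroup of `L`. -/
theorem exists_isSylowTwoIn_ge {U L : Subgroup G} (hU : IsPGroup 2 U) (hUL : U ≤ L) :
    ∃ T, IsSylowTwoIn T L ∧ U ≤ T := by
  have h1 : IsPGroup 2 (U.subgroupOf L) := hU.comap_of_injective _ L.subtype_injective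
  obtain ⟨P, hP⟩ := h1.exists_le_sylow
  refine ⟨_, isSylowTwoIn_iff.2 ⟨P, rfl⟩, ?_⟩
  have := Subgroup.map_mono (f := L.subtype) hP
  rwa [subgroupOf_map_subtype, inf_eq_left.2 hUL] at this

theorem exists_isSylowTwoIn (L : Subgroup G) : ∃ T, IsSylowTwoIn T L := by
  obtain ⟨T, hT, -⟩ := exists_isSylowTwoIn_ge (U := (⊥ : Subgroup G)) IsPGroup.of_bot bot_le (L := L)
  exact ⟨T, hT⟩

theorem map_subtype_smul {L : Subgroup G} (l : L) (P : Subgroup L) :
    (MulAut.conj l • P).map L.subtype = cj (l : G) (P.map L.subtype) := by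
  ext x
  constructor
  · rintro ⟨y, ⟨z, hz, rfl⟩, rfl⟩
    refine ⟨(z : G), ⟨z, hz, rfl⟩, ?_⟩
    simp
  · rintro ⟨_, ⟨z, hz, rfl⟩, rfl⟩
    refine ⟨MulAut.conj l z, ⟨z, hz, rfl⟩, ?_⟩
    simp

/-- Sylow 2-subgroups of `L` are conjugate in `L`. -/
theorem syl_exists_cj {T T' L : Subgroup G} (h : IsSylowTwoIn T L)
    (h' : IsSylowTwoIn T' L) : ∃ l ∈ L, cj l T = T' := by
  obtain ⟨P, rfl⟩ := isSylowTwoIn_iff.1 h
  obtain ⟨P', rfl⟩ := isSylowTwoIn_iff.1 h'
  obtain ⟨l, hl⟩ := MulAction.exists_smul_eq L P P'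
  refine ⟨l, l.2, ?_⟩
  rw [← map_subtype_smul, ← hl, Sylow.coe_subgroup_smul]

/-- Every 2-subgroup of `L` lies in an `L`-conjugate of a given Sylow 2-subgroup. -/
theorem syl_exists_le_cj {T U L : Subgroup G} (h : IsSylowTwoIn T L)
    (hU : IsPGroup 2 U) (hUL : U ≤ L) : ∃ l ∈ L, U ≤ cj l T := by
  obtain ⟨T', hT', hUT'⟩ := exists_isSylowTwoIn_ge hU hUL
  obtain ⟨l, hl, rfl⟩ := syl_exists_cj h hT'
  exact ⟨l, hl, hUT'⟩

theorem syl_card_eq {T T' L : Subgroup G} (h : IsSylowTwoIn T L)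
    (h' : IsSylowTwoIn T' L) : Nat.card T = Nat.card T' := by
  obtain ⟨l, -, rfl⟩ := syl_exists_cj h h'
  rw [card_cj]

theorem syl_card_le {T U L : Subgroup G} (h : IsSylowTwoIn T L)
    (hU : IsPGroup 2 U) (hUL : U ≤ L) : Nat.card U ≤ Nat.card T := by
  obtain ⟨l, -, hl⟩ := syl_exists_le_cj h hU hUL
  exact (Subgroup.card_le_of_le hl).trans (card_cj l T).le

theorem syl_eq_of_le {T U L : Subgroup G} (h : IsSylowTwoIn T L)
    (hU : IsPGroup 2 U) (hUL : U ≤ L) (hTU : T ≤ U) : T = U :=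
  Subgroup.eq_of_le_of_card_ge hTU (syl_card_le h hU hUL)

theorem syl_cj {T L : Subgroup G} (h : IsSylowTwoIn T L) (g : G) :
    IsSylowTwoIn (cj g T) (cj g L) :=
  ⟨cj_mono h.1, isPGroup_cj h.2.1, by rw [cj_relIndex]; exact h.2.2⟩

theorem syl_cj_mem {T L : Subgroup G} (h : IsSylowTwoIn T L) {l : G} (hl : l ∈ L) :
    IsSylowTwoIn (cj l T) L := by
  have := syl_cj h l
  rwa [cj_self_of_mem hl] at this

/-- A Sylow 2-subgroup of `L` contained in `H ≤ L` is one of `H`. -/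
theorem syl_of_le {T H L : Subgroup G} (h : IsSylowTwoIn T L) (hTH : T ≤ H) (hHL : H ≤ L) :
    IsSylowTwoIn T H := by
  refine ⟨hTH, h.2.1, ?_⟩
  have h1 := Subgroup.relIndex_mul_relIndex T H L hTH hHL
  have h2 := h.2.2
  rw [← h1] at h2
  exact (Nat.odd_mul.1 h2).1

/-- An equal-order 2-subgroup is Sylow too. -/
theorem syl_of_card_eq {T U L : Subgroup G} (h : IsSylowTwoIn T L)
    (hU : IsPGroup 2 U) (hUL : U ≤ L) (hc : Nat.card T ≤ Nat.card U) : IsSylowTwoIn U L := by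
  obtain ⟨T', hT', hUT'⟩ := exists_isSylowTwoIn_ge hU hUL
  have : U = T' := Subgroup.eq_of_le_of_card_ge hUT' (by rw [← syl_card_eq h hT']; exact hc)
  rw [this]; exact hT'

/-- For `N` normalized by `L`, `T ⊓ N` is a Sylow 2-subgroup of `N` (`N ≤ L`). -/
theorem syl_inf_of_le_normalizer {T N L : Subgroup G} (h : IsSylowTwoIn T L) (hNL : N ≤ L)
    (hn : L ≤ normalizer (N : Set G)) : IsSylowTwoIn (T ⊓ N) N := by
  obtain ⟨T₁, hT₁⟩ := exists_isSylowTwoIn N
  obtain ⟨l, hl, hl2⟩ := syl_exists_le_cj h hT₁.2.1 (hT₁.1.trans hNL)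
  refine syl_of_card_eq hT₁ (h.2.1.of_injective (Subgroup.inclusion inf_le_left)
    (Subgroup.inclusion_injective _)) inf_le_right ?_
  have h1 : cj l⁻¹ T₁ ≤ T ⊓ N := by
    refine le_inf ?_ ?_
    · rw [cj_le_iff, inv_inv]; exact hl2
    · have := cj_mono (g := l⁻¹) hT₁.1
      rwa [cj_eq_of_mem (inv_mem hl) hn] at this
  calc Nat.card T₁ = Nat.card (cj l⁻¹ T₁) := (card_cj _ _).symm
    _ ≤ _ := Subgroup.card_le_of_le h1

/-- Frattini argument. -/
theorem frattini {T N L : Subgroup G} (hT : IsSylowTwoIn T N) (hNL : N ≤ L)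
    (hn : L ≤ normalizer (N : Set G)) : ∀ l ∈ L, ∃ n ∈ N, ∃ m ∈ L ⊓ normalizer (T : Set G), l = n * m := by
  intro l hl
  have h1 : IsSylowTwoIn (cj l T) N := by
    have := syl_cj hT l
    rwa [cj_eq_of_mem hl hn] at this
  obtain ⟨n, hn1, hn2⟩ := syl_exists_cj hT h1
  refine ⟨n, hn1, n⁻¹ * l, ⟨L.mul_mem (L.inv_mem (hNL hn1)) hl, ?_⟩, by group⟩
  show n⁻¹ * l ∈ normalizer (T : Set G)
  rw [← cj_eq_self_iff, cj_mul, ← hn2, cj_inv_cj]

theorem frattini_le {T N L M : Subgroup G} (hT : IsSylowTwoIn T N) (hNL : N ≤ L)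
    (hn : L ≤ normalizer (N : Set G)) (h1 : N ≤ M) (h2 : L ⊓ normalizer (T : Set G) ≤ M) : L ≤ M := by
  intro l hl
  obtain ⟨n, hn1, m, hm, rfl⟩ := frattini hT hNL hn l hl
  exact M.mul_mem (h1 hn1) (h2 hm)

/-- Normalizers grow in 2-groups. -/
theorem lt_normalizer_inf {T S : Subgroup G} (hS : IsPGroup 2 S) (h : T < S) :
    T < S ⊓ normalizer (T : Set G) := by
  have hfin : Finite S := inferInstance
  have hnil : Group.IsNilpotent S := hS.isNilpotent
  have hlt : T.subgroupOf S < ⊤ := by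
    rw [lt_top_iff_ne_top]
    intro h1
    rw [Subgroup.subgroupOf_eq_top] at h1
    exact (lt_iff_le_not_ge.1 h).2 h1
  have h2 := (Group.normalizerCondition_of_isNilpotent (G := S)) (T.subgroupOf S) hlt
  refine lt_of_le_of_ne (le_inf h.le le_normalizer) ?_
  intro h3
  apply h2.ne
  apply le_antisymm le_normalizer
  intro s hs
  rw [mem_subgroupOf, h3]
  refine ⟨s.2, ?_⟩
  show (s : G) ∈ normalizer (T : Set G)
  rw [← cj_eq_self_iff]
  rw [← cj_eq_self_iff] at hs
  have h4 := congrArg (Subgroup.map S.subtype) hs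
  rw [subgroupOf_map_subtype, inf_eq_left.2 h.le] at h4
  have h5 : T = (T.subgroupOf S).map S.subtype := by
    rw [subgroupOf_map_subtype, inf_eq_left.2 h.le]
  have h6 : cj (s : G) ((T.subgroupOf S).map S.subtype) = (cj s (T.subgroupOf S)).map S.subtype := by
    show map _ (map _ _) = map _ (map _ _)
    rw [Subgroup.map_map, Subgroup.map_map]
    rfl
  rw [← h5, h4] at h6
  exact h6

end sylow

end Cfsg.Agent.H251
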