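import Cfsg.Agent.H251.JSylow

/-!
`O₂(L)` (`pCoreOf 2 L`), `Ω₁(Z(X))` (`omegaCenterOf X`), `J(T)` (`thompsonSubgroupOf 2 T`) and
`a(T)` (`maxElemAbelianOrder T`) as subgroups of `G`.
-/

set_option autoImplicit false
set_option linter.unusedSectionVars false

namespace Cfsg.Agent.H251

open Cfsg Subgroup
open scoped Pointwise commutatorElement

variable {G : Type*} [Group G]

/-! ### `O₂(L)` -/

section core

theorem pCoreOf_le (L : Subgroup G) : pCoreOf 2 L ≤ L := map_subtype_le _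

variable [Finite G]

theorem pCoreOf_isPGroup (L : Subgroup G) : IsPGroup 2 (pCoreOf 2 L) :=
  (Lib.Cores.pCore_isPGroup (G := L) 2).map _

theorem normalizer_le_normalizer_pCoreOf (L : Subgroup G) :
    normalizer (L : Set G) ≤ normalizer (pCoreOf 2 L : Set G) :=
  normalizer_le_normalizer_map L _ (Lib.Cores.pCore_characteristic 2)

theorem le_normalizer_pCoreOf (L : Subgroup G) : L ≤ normalizer (pCoreOf 2 L : Set G) :=
  le_normalizer.trans (normalizer_le_normalizer_pCoreOf L)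

/-- A 2-subgroup of `L` normalized by `L` lies in `O₂(L)`. -/
theorem le_pCoreOf {U L : Subgroup G} (hU : IsPGroup 2 U) (hUL : U ≤ L)
    (hn : L ≤ normalizer (U : Set G)) : U ≤ pCoreOf 2 L := by
  have h1 : (U.subgroupOf L).Normal := normal_subgroupOf_of_le_normalizer hn
  have h2 : IsPGroup 2 (U.subgroupOf L) := hU.comap_of_injective _ L.subtype_injective
  have h3 := Subgroup.map_mono (f := L.subtype) (Lib.Cores.le_pCore h1 h2)
  rwa [subgroupOf_map_subtype, inf_eq_left.2 hUL] at h3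

theorem pCoreOf_le_of_isSylow {T L : Subgroup G} (h : IsSylowTwoIn T L) : pCoreOf 2 L ≤ T := by
  obtain ⟨P, rfl⟩ := isSylowTwoIn_iff.1 h
  exact Subgroup.map_mono (Lib.Cores.pCore_le_sylow P)

theorem pCoreOf_cj (g : G) (L : Subgroup G) : pCoreOf 2 (cj g L) = cj g (pCoreOf 2 L) := by
  have key : ∀ (g : G) (L : Subgroup G), cj g (pCoreOf 2 L) ≤ pCoreOf 2 (cj g L) := by
    intro g L
    refine le_pCoreOf (isPGroup_cj (pCoreOf_isPGroup L)) (cj_mono (pCoreOf_le L)) ?_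
    rw [← cj_normalizer]
    exact cj_mono (le_normalizer_pCoreOf L)
  refine le_antisymm ?_ (key g L)
  have := key g⁻¹ (cj g L)
  rw [cj_inv_cj, cj_le_iff, inv_inv] at this
  exact this

/-- `O₂(L) ≤ O₂(H)` if `O₂(L) ≤ H ≤ L`. -/
theorem pCoreOf_le_pCoreOf {H L : Subgroup G} (hHL : H ≤ L) (h : pCoreOf 2 L ≤ H) :
    pCoreOf 2 L ≤ pCoreOf 2 H :=
  le_pCoreOf (pCoreOf_isPGroup L) h (hHL.trans (le_normalizer_pCoreOf L))

/-- `O₂(N) ≤ O₂(L)` if `N` is normalized by `L`, `N ≤ L`. -/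
theorem pCoreOf_mono_of_normal {N L : Subgroup G} (hNL : N ≤ L) (hn : L ≤ normalizer (N : Set G)) :
    pCoreOf 2 N ≤ pCoreOf 2 L :=
  le_pCoreOf (pCoreOf_isPGroup N) ((pCoreOf_le N).trans hNL)
    (hn.trans (normalizer_le_normalizer_pCoreOf N))

end core

/-! ### `Ω₁(Z(X))` -/

section omega

/-- Membership in `Ω₁(Z(X))`. -/
theorem mem_omegaCenterOf {X : Subgroup G} {x : G} :
    x ∈ omegaCenterOf X ↔ x ∈ X ∧ x ∈ centralizer (X : Set G) ∧ x ^ 2 = 1 := by
  constructor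
  · intro hx
    have key : omegaCenterOf X ≤ (X ⊓ centralizer (X : Set G)) := by
      rw [omegaCenterOf, omegaOne, closure_le]
      rintro y ⟨hy, -⟩
      exact hy
    have h1 := key hx
    refine ⟨h1.1, h1.2, ?_⟩
    rw [omegaCenterOf, omegaOne] at hx
    refine Subgroup.closure_induction (p := fun y _ => y ^ 2 = 1) ?_ ?_ ?_ ?_ hx
    · rintro y ⟨-, hy⟩; exact hy
    · exact one_pow 2
    · intro a b ha hb ha2 hb2
      have hab : Commute a b := by
        have h2 := (key ha).1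
        have h3 := (key hb).2
        exact mem_centralizer_iff.1 h3 a h2
      rw [hab.mul_pow, ha2, hb2, one_mul]
    · intro a _ ha2
      rw [inv_pow, ha2, inv_one]
  · rintro ⟨h1, h2, h3⟩
    exact Subgroup.subset_closure ⟨⟨h1, h2⟩, h3⟩

theorem omegaCenterOf_le (X : Subgroup G) : omegaCenterOf X ≤ X := fun _ h => (mem_omegaCenterOf.1 h).1

theorem omegaCenterOf_le_centralizer (X : Subgroup G) : omegaCenterOf X ≤ centralizer (X : Set G) :=
  fun _ h => (mem_omegaCenterOf.1 h).2.1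

theorem omegaCenterOf_pow {X : Subgroup G} {x : G} (h : x ∈ omegaCenterOf X) : x ^ 2 = 1 :=
  (mem_omegaCenterOf.1 h).2.2

theorem le_centralizer_omegaCenterOf (X : Subgroup G) :
    X ≤ centralizer (omegaCenterOf X : Set G) := by
  intro x hx
  rw [mem_centralizer_iff]
  intro y hy
  exact (mem_centralizer_iff.1 (omegaCenterOf_le_centralizer X hy) x hx).symm

theorem omegaCenterOf_isElementaryAbelian (X : Subgroup G) :
    IsElementaryAbelian 2 (omegaCenterOf X) := by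
  rw [PLocal.ThompsonJ.isElementaryAbelian_iff]
  refine ⟨fun a ha b hb => ?_, fun a ha => omegaCenterOf_pow ha⟩
  exact mem_centralizer_iff.1 (omegaCenterOf_le_centralizer X hb) a (omegaCenterOf_le X ha)

theorem omegaCenterOf_cj (g : G) (X : Subgroup G) :
    omegaCenterOf (cj g X) = cj g (omegaCenterOf X) := by
  ext x
  rw [mem_cj, mem_omegaCenterOf, mem_omegaCenterOf, mem_cj, ← cj_centralizer, mem_cj]
  have : (g⁻¹ * x * g) ^ 2 = g⁻¹ * x ^ 2 * g := by
    rw [pow_two, pow_two]; group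
  rw [this]
  constructor
  · rintro ⟨h1, h2, h3⟩
    exact ⟨h1, h2, by rw [h3]; group⟩
  · rintro ⟨h1, h2, h3⟩
    refine ⟨h1, h2, ?_⟩
    calc x ^ 2 = g * (g⁻¹ * x ^ 2 * g) * g⁻¹ := by group
      _ = 1 := by rw [h3]; group

theorem normalizer_le_normalizer_omegaCenterOf (X : Subgroup G) :
    normalizer (X : Set G) ≤ normalizer (omegaCenterOf X : Set G) := by
  intro g hg
  rw [← cj_eq_self_iff] at hg ⊢
  rw [← omegaCenterOf_cj, hg]

theorem le_normalizer_omegaCenterOf (X : Subgroup G) :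
    X ≤ normalizer (omegaCenterOf X : Set G) :=
  le_normalizer.trans (normalizer_le_normalizer_omegaCenterOf X)

theorem isPGroup_of_pow_two {X : Subgroup G} (h : ∀ x ∈ X, x ^ 2 = 1) : IsPGroup 2 X := by
  rintro ⟨x, hx⟩
  exact ⟨1, by rw [pow_one]; exact Subtype.ext (h x hx)⟩

theorem omegaCenterOf_isPGroup (X : Subgroup G) : IsPGroup 2 (omegaCenterOf X) :=
  isPGroup_of_pow_two fun _ h => omegaCenterOf_pow h

theorem omegaCenterOf_ne_bot [Finite G] {X : Subgroup G} (hX : IsPGroup 2 X) (h1 : X ≠ ⊥) :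
    omegaCenterOf X ≠ ⊥ := by
  have hnt : Nontrivial X := (Subgroup.nontrivial_iff_ne_bot X).2 h1
  have hc : Nontrivial (Subgroup.center X) := hX.center_nontrivial
  have hp : IsPGroup 2 (Subgroup.center X) := hX.to_subgroup _
  obtain ⟨n, hn, hcard⟩ := (IsPGroup.nontrivial_iff_card hp).1 hc
  have hdvd : 2 ∣ Nat.card (Subgroup.center X) := by
    rw [hcard]; exact dvd_pow_self 2 hn.ne'
  obtain ⟨z, hz⟩ := exists_prime_orderOf_dvd_card' 2 hdvd
  intro h
  have hzz : ((z : X) : G) ∈ omegaCenterOf X := by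
    rw [mem_omegaCenterOf]
    refine ⟨(z : X).2, ?_, ?_⟩
    · rw [mem_centralizer_iff]
      intro y hy
      have := (Subgroup.mem_center_iff.1 z.2) ⟨y, hy⟩
      exact congrArg Subtype.val this
    · have := pow_orderOf_eq_one z
      rw [hz] at this
      have h3 := congrArg (fun w : Subgroup.center X => ((w : X) : G)) this
      simpa using h3
  rw [h, mem_bot] at hzz
  have : z = 1 := Subtype.ext (Subtype.ext hzz)
  rw [this, orderOf_one] at hz
  exact absurd hz (by norm_num)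

/-- If `Y ≤ X` contains its centralizer in `X`... : `C_X(Y) ≤ Y` gives `Ω₁(Z(X)) ≤ Ω₁(Z(Y))`. -/
theorem omegaCenterOf_anti {X Y : Subgroup G} (hYX : Y ≤ X) (hc : X ⊓ centralizer (Y : Set G) ≤ Y) :
    omegaCenterOf X ≤ omegaCenterOf Y := by
  intro x hx
  rw [mem_omegaCenterOf] at hx ⊢
  have h1 : x ∈ centralizer (Y : Set G) := centralizer_le (show (Y : Set G) ⊆ X from hYX) hx.2.1
  exact ⟨hc ⟨hx.1, h1⟩, h1, hx.2.2⟩

end omega

/-! ### `J(T)` -/

section thompson

/-- The elementary abelian subgroups of `T` of largest order, as subgroups of `G`. -/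
def maxEl (T : Subgroup G) : Set (Subgroup G) :=
  {A | A ≤ T ∧ IsElementaryAbelian 2 A ∧ ∀ B ≤ T, IsElementaryAbelian 2 B → Nat.card B ≤ Nat.card A}

theorem mem_maxEl {T A : Subgroup G} : A ∈ maxEl T ↔ A ≤ T ∧ IsElementaryAbelian 2 A ∧
    ∀ B ≤ T, IsElementaryAbelian 2 B → Nat.card B ≤ Nat.card A := Iff.rfl

theorem map_subtype_mem_maxEl_iff {T : Subgroup G} {A : Subgroup T} :
    A.map T.subtype ∈ maxEl T ↔ A ∈ maxElementaryAbelianSubgroups 2 T := by
  rw [mem_maxEl, PLocal.ThompsonJ.mem_maxElementaryAbelianSubgroups_iff,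
    PLocal.ThompsonJ.isElementaryAbelian_map_iff T.subtype_injective]
  constructor
  · rintro ⟨-, h1, h2⟩
    refine ⟨h1, fun B hB => ?_⟩
    have := h2 (B.map T.subtype) (map_subtype_le _) (PLocal.ThompsonJ.isElementaryAbelian_map hB _)
    rwa [PLocal.ThompsonJ.card_map_injective _ T.subtype_injective,
      PLocal.ThompsonJ.card_map_injective _ T.subtype_injective] at this
  · rintro ⟨h1, h2⟩
    refine ⟨map_subtype_le _, h1, fun B hBT hB => ?_⟩
    have := h2 (B.subgroupOf T) (PLocal.ThompsonJ.isElementaryAbelian_subgroupOf hB T)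
    rw [PLocal.ThompsonJ.card_map_injective _ T.subtype_injective]
    rwa [Nat.card_congr (Subgroup.subgroupOfEquivOfLe hBT).toEquiv] at this

theorem mem_maxEl_iff_exists {T A : Subgroup G} :
    A ∈ maxEl T ↔ ∃ B ∈ maxElementaryAbelianSubgroups 2 T, B.map T.subtype = A := by
  constructor
  · intro h
    have h1 : (A.subgroupOf T).map T.subtype = A := by
      rw [subgroupOf_map_subtype, inf_eq_left.2 h.1]
    refine ⟨A.subgroupOf T, ?_, h1⟩
    rw [← map_subtype_mem_maxEl_iff, h1]; exact h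
  · rintro ⟨B, hB, rfl⟩
    exact map_subtype_mem_maxEl_iff.2 hB

theorem thompsonSubgroupOf_eq_sSup (T : Subgroup G) : thompsonSubgroupOf 2 T = sSup (maxEl T) := by
  rw [thompsonSubgroupOf, thompsonSubgroup, sSup_eq_iSup', Subgroup.map_iSup, sSup_eq_iSup']
  apply le_antisymm
  · refine iSup_le fun A => ?_
    exact le_iSup (fun B : maxEl T => (B : Subgroup G)) ⟨_, map_subtype_mem_maxEl_iff.2 A.2⟩
  · refine iSup_le ?_
    rintro ⟨A, hA⟩
    obtain ⟨B, hB, rfl⟩ := mem_maxEl_iff_exists.1 hA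
    exact le_iSup (fun A : maxElementaryAbelianSubgroups 2 T => (A : Subgroup T).map T.subtype) ⟨B, hB⟩

theorem le_J_of_mem {T A : Subgroup G} (h : A ∈ maxEl T) : A ≤ thompsonSubgroupOf 2 T := by
  rw [thompsonSubgroupOf_eq_sSup]; exact le_sSup h

theorem J_le_iff {T U : Subgroup G} : thompsonSubgroupOf 2 T ≤ U ↔ ∀ A ∈ maxEl T, A ≤ U := by
  rw [thompsonSubgroupOf_eq_sSup, sSup_le_iff]

theorem J_le (T : Subgroup G) : thompsonSubgroupOf 2 T ≤ T := map_subtype_le _

variable [Finite G]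

theorem exists_mem_maxEl (T : Subgroup G) : (maxEl T).Nonempty := by
  obtain ⟨A, hA⟩ := PLocal.ThompsonJ.exists_maxElementaryAbelian 2 T
  exact ⟨_, map_subtype_mem_maxEl_iff.2 hA⟩

theorem maxElemAbelianOrder_eq {T A : Subgroup G} (h : A ∈ maxEl T) :
    maxElemAbelianOrder T = Nat.card A := by
  obtain ⟨B, hB, rfl⟩ := mem_maxEl_iff_exists.1 h
  rw [maxElemAbelianOrder, PLocal.ThompsonJ.card_map_injective _ T.subtype_injective]
  have : (fun A : Subgroup T => Nat.card A) '' maxElementaryAbelianSubgroups 2 T = {Nat.card B} := by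
    ext n
    constructor
    · rintro ⟨C, hC, rfl⟩
      exact PLocal.ThompsonJ.card_eq_of_mem_max hC hB
    · rintro rfl
      exact ⟨B, hB, rfl⟩
  rw [this, csSup_singleton]

theorem card_le_a {T B : Subgroup G} (hBT : B ≤ T) (hB : IsElementaryAbelian 2 B) :
    Nat.card B ≤ maxElemAbelianOrder T := by
  obtain ⟨A, hA⟩ := exists_mem_maxEl T
  rw [maxElemAbelianOrder_eq hA]
  exact hA.2.2 B hBT hB

theorem mem_maxEl_iff_card {T A : Subgroup G} :
    A ∈ maxEl T ↔ A ≤ T ∧ IsElementaryAbelian 2 A ∧ Nat.card A = maxElemAbelianOrder T := by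
  constructor
  · intro h
    exact ⟨h.1, h.2.1, (maxElemAbelianOrder_eq h).symm⟩
  · rintro ⟨h1, h2, h3⟩
    refine ⟨h1, h2, fun B hBT hB => ?_⟩
    rw [h3]; exact card_le_a hBT hB

theorem mem_maxEl_of_card_ge {T A : Subgroup G} (h1 : A ≤ T) (h2 : IsElementaryAbelian 2 A)
    (h3 : maxElemAbelianOrder T ≤ Nat.card A) : A ∈ maxEl T :=
  mem_maxEl_iff_card.2 ⟨h1, h2, le_antisymm (card_le_a h1 h2) h3⟩

theorem a_mono {T U : Subgroup G} (h : T ≤ U) : maxElemAbelianOrder T ≤ maxElemAbelianOrder U := by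
  obtain ⟨A, hA⟩ := exists_mem_maxEl T
  rw [maxElemAbelianOrder_eq hA]
  exact card_le_a (hA.1.trans h) hA.2.1

/-- `a(T) ≤ a(U)` as soon as `J(T) ≤ U`. -/
theorem a_le_of_J_le {T U : Subgroup G} (h : thompsonSubgroupOf 2 T ≤ U) :
    maxElemAbelianOrder T ≤ maxElemAbelianOrder U := by
  obtain ⟨A, hA⟩ := exists_mem_maxEl T
  rw [maxElemAbelianOrder_eq hA]
  exact card_le_a ((le_J_of_mem hA).trans h) hA.2.1

/-- If `J(T) ≤ U` and `a(T) = a(U)` then `J(T) ≤ J(U)`. -/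
theorem J_le_J {T U : Subgroup G} (h : thompsonSubgroupOf 2 T ≤ U)
    (ha : maxElemAbelianOrder U ≤ maxElemAbelianOrder T) :
    thompsonSubgroupOf 2 T ≤ thompsonSubgroupOf 2 U := by
  rw [J_le_iff]
  intro A hA
  apply le_J_of_mem
  refine mem_maxEl_of_card_ge ((le_J_of_mem hA).trans h) hA.2.1 ?_
  rw [← maxElemAbelianOrder_eq hA]; exact ha

theorem J_eq_of_le_of_card {T U : Subgroup G} (h : thompsonSubgroupOf 2 T ≤ U)
    (ha : maxElemAbelianOrder U ≤ maxElemAbelianOrder T)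
    (hc : Nat.card (thompsonSubgroupOf 2 U) ≤ Nat.card (thompsonSubgroupOf 2 T)) :
    thompsonSubgroupOf 2 T = thompsonSubgroupOf 2 U :=
  Subgroup.eq_of_le_of_card_ge (J_le_J h ha) hc

/-- If `J(T) ≤ U ≤ T` then `J(U) = J(T)`. -/
theorem J_eq_of_le {T U : Subgroup G} (h : thompsonSubgroupOf 2 T ≤ U) (hU : U ≤ T) :
    thompsonSubgroupOf 2 U = thompsonSubgroupOf 2 T := by
  have ha : maxElemAbelianOrder U = maxElemAbelianOrder T := le_antisymm (a_mono hU) (a_le_of_J_le h)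
  refine le_antisymm ?_ (J_le_J h ha.le)
  rw [J_le_iff]
  intro A hA
  apply le_J_of_mem
  refine mem_maxEl_of_card_ge (hA.1.trans hU) hA.2.1 ?_
  rw [← maxElemAbelianOrder_eq hA]; exact ha.ge

theorem a_J (T : Subgroup G) : maxElemAbelianOrder (thompsonSubgroupOf 2 T) = maxElemAbelianOrder T :=
  le_antisymm (a_mono (J_le T)) (a_le_of_J_le le_rfl)

theorem J_J (T : Subgroup G) : thompsonSubgroupOf 2 (thompsonSubgroupOf 2 T) = thompsonSubgroupOf 2 T :=
  J_eq_of_le le_rfl (J_le T)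

theorem J_cj (g : G) (T : Subgroup G) :
    thompsonSubgroupOf 2 (cj g T) = cj g (thompsonSubgroupOf 2 T) :=
  PLocal.ThompsonJ.thompsonSubgroupOf_map_conj 2 g T

theorem cj_mem_maxEl {g : G} {T A : Subgroup G} : cj g A ∈ maxEl (cj g T) ↔ A ∈ maxEl T := by
  have key : ∀ (g : G) (T A : Subgroup G), A ∈ maxEl T → cj g A ∈ maxEl (cj g T) := by
    intro g T A h
    refine ⟨cj_mono h.1, PLocal.ThompsonJ.isElementaryAbelian_map h.2.1 _, fun B hB hBe => ?_⟩
    have h1 := h.2.2 (cj g⁻¹ B) (by rw [cj_le_iff, inv_inv]; exact hB)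
      (PLocal.ThompsonJ.isElementaryAbelian_map hBe _)
    rwa [card_cj, ← card_cj g A] at h1
  refine ⟨fun h => ?_, key g T A⟩
  have := key g⁻¹ _ _ h
  rwa [cj_inv_cj, cj_inv_cj] at this

theorem a_cj (g : G) (T : Subgroup G) : maxElemAbelianOrder (cj g T) = maxElemAbelianOrder T := by
  obtain ⟨A, hA⟩ := exists_mem_maxEl T
  rw [maxElemAbelianOrder_eq hA, maxElemAbelianOrder_eq (cj_mem_maxEl.2 hA), card_cj]

theorem normalizer_le_normalizer_J (T : Subgroup G) :
    normalizer (T : Set G) ≤ normalizer (thompsonSubgroupOf 2 T : Set G) := by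
  intro g hg
  rw [← cj_eq_self_iff] at hg ⊢
  rw [← J_cj, hg]

theorem le_normalizer_J (T : Subgroup G) : T ≤ normalizer (thompsonSubgroupOf 2 T : Set G) :=
  le_normalizer.trans (normalizer_le_normalizer_J T)

theorem J_ne_bot {T : Subgroup G} (hT : IsPGroup 2 T) (h1 : T ≠ ⊥) : thompsonSubgroupOf 2 T ≠ ⊥ := by
  have hnt : Nontrivial T := (Subgroup.nontrivial_iff_ne_bot T).2 h1
  obtain ⟨n, hn, hcard⟩ := (IsPGroup.nontrivial_iff_card hT).1 hnt
  have hdvd : 2 ∣ Nat.card T := by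
    rw [hcard]; exact dvd_pow_self 2 hn.ne'
  intro h
  rw [thompsonSubgroupOf, Subgroup.map_eq_bot_iff_of_injective _ T.subtype_injective] at h
  exact PLocal.ThompsonJ.thompsonSubgroup_ne_bot hdvd h

/-- If a subgroup of order dividing ... : an involution of `T` centralizing `A ∈ 𝒜(T)` lies in `A`. -/
theorem mem_of_mem_maxEl {T A : Subgroup G} (hA : A ∈ maxEl T) {x : G} (hx : x ∈ T)
    (hc : x ∈ centralizer (A : Set G)) (h2 : x ^ 2 = 1) : x ∈ A := by
  have h3 : Subgroup.zpowers x ≤ Subgroup.centralizer (A : Set G) := by rwa [Subgroup.zpowers_le]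
  have h4 := PLocal.ElemAbSup.isElementaryAbelian_sup hA.2.1
    (PLocal.ElemAbSup.isElementaryAbelian_zpowers h2) h3
  have h5 := hA.2.2 (A ⊔ Subgroup.zpowers x) (sup_le hA.1 (by rwa [Subgroup.zpowers_le])) h4
  have h6 : A = A ⊔ Subgroup.zpowers x := Subgroup.eq_of_le_of_card_ge le_sup_left h5
  rw [h6]
  exact (le_sup_right : Subgroup.zpowers x ≤ A ⊔ Subgroup.zpowers x) (Subgroup.mem_zpowers x)

/-- Elementary abelian subgroups of `T` centralizing `A ∈ 𝒜(T)` lie in `A`. -/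
theorem le_of_mem_maxEl {T A B : Subgroup G} (hA : A ∈ maxEl T) (hB : B ≤ T)
    (hc : B ≤ centralizer (A : Set G)) (h2 : ∀ x ∈ B, x ^ 2 = 1) : B ≤ A :=
  fun x hx => mem_of_mem_maxEl hA (hB hx) (hc hx) (h2 x hx)

/-- An involution of `T` centralizing `J(T)` lies in `Ω₁(Z(J(T)))`. -/
theorem mem_Z0_of_centralizes {T : Subgroup G} {x : G} (hx : x ∈ T)
    (hc : x ∈ centralizer (thompsonSubgroupOf 2 T : Set G)) (h2 : x ^ 2 = 1) :
    x ∈ omegaCenterOf (thompsonSubgroupOf 2 T) := by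
  obtain ⟨A, hA⟩ := exists_mem_maxEl T
  have h1 : x ∈ A := mem_of_mem_maxEl hA hx
    (centralizer_le (show (A : Set G) ⊆ _ from le_J_of_mem hA) hc) h2
  rw [mem_omegaCenterOf]
  exact ⟨le_J_of_mem hA h1, hc, h2⟩

theorem omegaCenterOf_le_Z0 (T : Subgroup G) :
    omegaCenterOf T ≤ omegaCenterOf (thompsonSubgroupOf 2 T) := by
  intro x hx
  rw [mem_omegaCenterOf] at hx
  exact mem_Z0_of_centralizes hx.1 (centralizer_le (show (_ : Set G) ⊆ _ from J_le T) hx.2.1) hx.2.2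

theorem Z0_le_of_mem_maxEl {T A : Subgroup G} (hA : A ∈ maxEl T) :
    omegaCenterOf (thompsonSubgroupOf 2 T) ≤ A := by
  intro x hx
  rw [mem_omegaCenterOf] at hx
  exact mem_of_mem_maxEl hA (J_le T hx.1)
    (centralizer_le (show (A : Set G) ⊆ _ from le_J_of_mem hA) hx.2.1) hx.2.2

/-- Sylow version: if `T, T'` are Sylow 2-subgroups of `L`, `J(T) ≤ T'`, then `J(T) = J(T')`. -/
theorem J_eq_of_isSylow {T T' L : Subgroup G} (h : IsSylowTwoIn T L) (h' : IsSylowTwoIn T' L)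
    (hJ : thompsonSubgroupOf 2 T ≤ T') : thompsonSubgroupOf 2 T = thompsonSubgroupOf 2 T' := by
  obtain ⟨l, -, rfl⟩ := syl_exists_cj h h'
  apply J_eq_of_le_of_card hJ (a_cj l T).le
  rw [J_cj, card_cj]

/-- If `T` is Sylow in `L`, `J(T) ≤ S'` with `S' ≤ L` a 2-group, then `J(S') = J(T)`. -/
theorem J_eq_of_le_isSylow {T S' L : Subgroup G} (h : IsSylowTwoIn T L) (hS' : IsPGroup 2 S')
    (hS'L : S' ≤ L) (hJ : thompsonSubgroupOf 2 T ≤ S') :
    thompsonSubgroupOf 2 S' = thompsonSubgroupOf 2 T := by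
  obtain ⟨T', hT', hST'⟩ := exists_isSylowTwoIn_ge hS' hS'L
  have h1 := J_eq_of_isSylow h hT' (hJ.trans hST')
  rw [h1] at hJ ⊢
  exact J_eq_of_le hJ hST'

end thompson

/-! ### 2-local subgroups -/

section twolocal

variable [Finite G]

/-- characteristic 2 type: `C_G(O₂(L)) ≤ O₂(L)` for a 2-local `L`. -/
theorem centralizer_pCoreOf_le (hL : IsCharacteristicTwoType G) {L : Subgroup G}
    (h : IsTwoLocal L) : centralizer (pCoreOf 2 L : Set G) ≤ pCoreOf 2 L := by
  obtain ⟨U, hU, hU1, rfl⟩ := h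
  have h1 := hL.2 U hU hU1
  have hUO : U ≤ pCoreOf 2 (normalizer (U : Set G)) := le_pCoreOf hU le_normalizer le_rfl
  intro x hx
  have hxN : x ∈ normalizer (U : Set G) :=
    centralizer_le_normalizer _ (centralizer_le (show (U : Set G) ⊆ _ from hUO) hx)
  have h2 : (⟨x, hxN⟩ : normalizer (U : Set G)) ∈
      centralizer (pCore 2 (normalizer (U : Set G)) : Set (normalizer (U : Set G))) := by
    rw [mem_centralizer_iff]
    intro y hy
    exact Subtype.ext (mem_centralizer_iff.1 hx (y : G) ⟨y, hy, rfl⟩)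
  exact ⟨_, h1 h2, rfl⟩

theorem pCoreOf_ne_bot_of_isTwoLocal {L : Subgroup G} (h : IsTwoLocal L) : pCoreOf 2 L ≠ ⊥ := by
  obtain ⟨U, hU, hU1, rfl⟩ := h
  intro h1
  apply hU1
  rw [eq_bot_iff, ← h1]
  exact le_pCoreOf hU le_normalizer le_rfl

theorem isTwoLocal_normalizer {U : Subgroup G} (hU : IsPGroup 2 U) (h1 : U ≠ ⊥) :
    IsTwoLocal (normalizer (U : Set G)) := ⟨U, hU, h1, rfl⟩

theorem isTwoLocal_cj {L : Subgroup G} (h : IsTwoLocal L) (g : G) : IsTwoLocal (cj g L) := by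
  obtain ⟨U, hU, hU1, rfl⟩ := h
  exact ⟨cj g U, isPGroup_cj hU, fun h => hU1 (cj_eq_bot_iff.1 h), cj_normalizer g U⟩

theorem isMaximalTwoLocal_cj {L : Subgroup G} (h : IsMaximalTwoLocal L) (g : G) :
    IsMaximalTwoLocal (cj g L) := by
  refine ⟨isTwoLocal_cj h.1 g, fun N hN hLN => ?_⟩
  have h1 := h.2 (cj g⁻¹ N) (isTwoLocal_cj hN _) (by
    have := cj_mono (g := g⁻¹) hLN
    rwa [cj_inv_cj] at this)
  rw [← h1, cj_cj_inv]

theorem exists_isMaximalTwoLocal_ge {L : Subgroup G} (h : IsTwoLocal L) :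
    ∃ M, IsMaximalTwoLocal M ∧ L ≤ M := by
  obtain ⟨M, hM, hmax⟩ := Set.exists_max_image {M : Subgroup G | IsTwoLocal M ∧ L ≤ M}
    (fun M => Nat.card M) (Set.toFinite _) ⟨L, h, le_rfl⟩
  refine ⟨M, ⟨hM.1, fun N hN hMN => ?_⟩, hM.2⟩
  exact (Subgroup.eq_of_le_of_card_ge hMN (hmax N ⟨hN, hM.2.trans hMN⟩)).symm

/-- A subgroup with non-trivial `O₂` lies in a maximal 2-local subgroup. -/
theorem exists_isMaximalTwoLocal_ge_of_pCoreOf {H : Subgroup G} (h : pCoreOf 2 H ≠ ⊥) :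
    ∃ M, IsMaximalTwoLocal M ∧ H ≤ M := by
  obtain ⟨M, hM, hle⟩ := exists_isMaximalTwoLocal_ge (isTwoLocal_normalizer (pCoreOf_isPGroup H) h)
  exact ⟨M, hM, (le_normalizer_pCoreOf H).trans hle⟩

theorem normalizer_pCoreOf_eq {L : Subgroup G} (h : IsMaximalTwoLocal L) :
    normalizer (pCoreOf 2 L : Set G) = L :=
  h.2 _ (isTwoLocal_normalizer (pCoreOf_isPGroup L) (pCoreOf_ne_bot_of_isTwoLocal h.1))
    (le_normalizer_pCoreOf L)

/-- A maximal 2-local subgroup is self-normalizing. -/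
theorem normalizer_eq_of_isMaximalTwoLocal {L : Subgroup G} (h : IsMaximalTwoLocal L) :
    normalizer (L : Set G) = L := by
  refine le_antisymm ?_ le_normalizer
  conv_rhs => rw [← normalizer_pCoreOf_eq h]
  exact normalizer_le_normalizer_pCoreOf L

theorem isTwoLocal_ne_top (hO : pCore 2 G = ⊥) {L : Subgroup G} (h : IsTwoLocal L) : L ≠ ⊤ := by
  rintro rfl
  apply pCoreOf_ne_bot_of_isTwoLocal h
  rw [eq_bot_iff, ← hO]
  apply Lib.Cores.le_pCore
  · rw [← Subgroup.normalizer_eq_top_iff]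
    exact top_le_iff.1 (le_normalizer_pCoreOf ⊤)
  · exact pCoreOf_isPGroup ⊤

end twolocal

end Cfsg.Agent.H251
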