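import Cfsg.Agent.H251.JFixed
import Cfsg.Agent.Lib.CoprimeCommutator
import Cfsg.Agent.Lib.CoprimeAbelian

/-!
The subgroup `O²(P)` generated by the odd-order elements of `P`, counting tools.
-/

set_option autoImplicit false
set_option linter.unusedSectionVars false

namespace Cfsg.Agent.H251

open Cfsg Subgroup
open scoped Pointwise commutatorElement

variable {G : Type*} [Group G]

/-- `O²(P)`: generated by the odd-order elements of `P`. -/
def oddGen (P : Subgroup G) : Subgroup G := closure {g : G | g ∈ P ∧ Odd (orderOf g)}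

theorem mem_oddGen {P : Subgroup G} {g : G} (hg : g ∈ P) (ho : Odd (orderOf g)) : g ∈ oddGen P :=
  subset_closure ⟨hg, ho⟩

theorem oddGen_le (P : Subgroup G) : oddGen P ≤ P := (closure_le _).2 fun _ h => h.1

theorem oddGen_mono {P Q : Subgroup G} (h : P ≤ Q) : oddGen P ≤ oddGen Q :=
  closure_mono fun _ hg => ⟨h hg.1, hg.2⟩

theorem oddGen_oddGen (P : Subgroup G) : oddGen (oddGen P) = oddGen P := by
  refine le_antisymm (oddGen_le _) ((closure_le _).2 ?_)
  rintro g ⟨hg, ho⟩
  exact mem_oddGen (mem_oddGen hg ho) ho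

theorem oddGen_cj (g : G) (P : Subgroup G) : oddGen (cj g P) = cj g (oddGen P) := by
  have key : ∀ (g : G) (P : Subgroup G), cj g (oddGen P) ≤ oddGen (cj g P) := by
    intro g P
    rw [cj_le_iff, oddGen, closure_le]
    rintro x ⟨hx, ho⟩
    show x ∈ cj g⁻¹ (oddGen (cj g P))
    rw [mem_cj]
    have h1 : orderOf (g⁻¹⁻¹ * x * g⁻¹) = orderOf x := by
      have : g⁻¹⁻¹ * x * g⁻¹ = MulAut.conj g x := by simp
      rw [this]
      exact orderOf_injective (MulAut.conj g).toMonoidHom (MulAut.conj g).injective x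
    refine mem_oddGen ?_ (by rw [h1]; exact ho)
    rw [mem_cj]
    have : g⁻¹ * (g⁻¹⁻¹ * x * g⁻¹) * g = x := by group
    rwa [this]
  refine le_antisymm ?_ (key g P)
  have := key g⁻¹ (cj g P)
  rwa [cj_inv_cj, cj_le_iff, inv_inv] at this

theorem normalizer_le_normalizer_oddGen (P : Subgroup G) :
    normalizer (P : Set G) ≤ normalizer (oddGen P : Set G) := by
  intro g hg
  rw [← cj_eq_self_iff] at hg ⊢
  rw [← oddGen_cj, hg]

theorem le_normalizer_oddGen (P : Subgroup G) : P ≤ normalizer (oddGen P : Set G) :=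
  le_normalizer.trans (normalizer_le_normalizer_oddGen P)

/-- An odd-order element of `P` lies in every subgroup `N`, normalized by `P`, of 2-power index. -/
theorem mem_of_relIndex_pow {P N : Subgroup G} (hn : P ≤ normalizer (N : Set G))
    {k : ℕ} (hk : N.relIndex P ∣ 2 ^ k) {g : G} (hg : g ∈ P) (ho : Odd (orderOf g)) : g ∈ N := by
  have h1 : (N.subgroupOf P).Normal := normal_subgroupOf_of_le_normalizer hn
  have h2 : (⟨g, hg⟩ : P) ^ (N.subgroupOf P).index ∈ N.subgroupOf P :=
    Subgroup.pow_index_mem (N.subgroupOf P) _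
  have h3 : g ^ N.relIndex P ∈ N := by
    rw [mem_subgroupOf] at h2
    exact h2
  have h4 : g ^ (2 ^ k) ∈ N := by
    obtain ⟨m, hm⟩ := hk
    rw [hm, pow_mul]
    exact N.pow_mem h3 m
  have hcop : (2 ^ k).Coprime (orderOf g) :=
    Nat.Coprime.pow_left k ((Nat.coprime_two_left).2 ho)
  obtain ⟨m, hm⟩ := exists_pow_eq_self_of_coprime hcop
  rw [← hm]
  exact N.pow_mem h4 m

theorem oddGen_le_of_relIndex {P N : Subgroup G} (hn : P ≤ normalizer (N : Set G))
    {k : ℕ} (hk : N.relIndex P ∣ 2 ^ k) : oddGen P ≤ N :=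
  (closure_le _).2 fun _ h => mem_of_relIndex_pow hn hk h.1 h.2

variable [Finite G]

theorem card_mul_relIndex {H K : Subgroup G} (h : H ≤ K) :
    Nat.card H * H.relIndex K = Nat.card K := by
  have := relIndex_mul_relIndex (⊥ : Subgroup G) H K bot_le h
  simpa using this

/-- `|H| |K| = |H K| |H ∩ K|` when `K` normalizes `H`. -/
theorem card_sup_mul_card_inf {H K : Subgroup G} (h : K ≤ normalizer (H : Set G)) :
    Nat.card ↥(H ⊔ K) * Nat.card ↥(H ⊓ K) = Nat.card H * Nat.card K := by
  rw [← Cfsg.Agent.Lib.ProductSet.card_mul_card_inf H K,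
    ← Subgroup.coe_mul_of_right_le_normalizer_left H K h]
  rfl

/-- Membership in `H ⊔ K` when `K` normalizes `H`. -/
theorem mem_sup_iff {H K : Subgroup G} (h : K ≤ normalizer (H : Set G)) {x : G} :
    x ∈ H ⊔ K ↔ ∃ a ∈ H, ∃ b ∈ K, x = a * b := by
  have h1 : ((H ⊔ K : Subgroup G) : Set G) = (H : Set G) * (K : Set G) :=
    Subgroup.coe_mul_of_right_le_normalizer_left H K h
  rw [← SetLike.mem_coe, h1, Set.mem_mul]
  constructor
  · rintro ⟨a, ha, b, hb, rfl⟩; exact ⟨a, ha, b, hb, rfl⟩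
  · rintro ⟨a, ha, b, hb, rfl⟩; exact ⟨a, ha, b, hb, rfl⟩

/-- A subgroup of index 2 is normal. -/
theorem le_normalizer_of_relIndex_two {H K : Subgroup G} (hHK : H ≤ K) (h : H.relIndex K = 2) :
    K ≤ normalizer (H : Set G) :=
  le_normalizer_of_normal_subgroupOf hHK (Subgroup.normal_of_index_eq_two h)

/-- Counting fixed points of a `p`-group acting by conjugation: if `C_W(A) = 1` then
`|W| ≡ 1 mod p`. -/
theorem card_modEq_one {p : ℕ} [Fact p.Prime] {A W : Subgroup G} (hA : IsPGroup p A)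
    (hAW : A ≤ normalizer (W : Set G)) (hC : W ⊓ centralizer (A : Set G) = ⊥) :
    Nat.card W ≡ 1 [MOD p] := by
  have hmem : ∀ (t : A) (u : G), u ∈ W → (t : G) * u * (t : G)⁻¹ ∈ W := fun t u hu =>
    (Subgroup.mem_normalizer_iff.1 (hAW t.2) u).1 hu
  let act : MulAction A W :=
    { smul := fun t u => ⟨(t : G) * u * (t : G)⁻¹, hmem t u u.2⟩
      one_smul := fun u => Subtype.ext (by
        show ((1 : A) : G) * (u : G) * ((1 : A) : G)⁻¹ = u
        simp)
      mul_smul := fun s t u => Subtype.ext (by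
        show ((s * t : A) : G) * (u : G) * ((s * t : A) : G)⁻¹ =
          (s : G) * ((t : G) * u * (t : G)⁻¹) * (s : G)⁻¹
        rw [Subgroup.coe_mul]; group) }
  have h1 := hA.card_modEq_card_fixedPoints W
  have h2 : Nat.card (MulAction.fixedPoints A W) = 1 := by
    rw [Nat.card_eq_one_iff_unique]
    refine ⟨⟨?_⟩, ⟨⟨1, ?_⟩⟩⟩
    · have key : ∀ b : W, b ∈ MulAction.fixedPoints A W → b = 1 := by
        intro b hb
        have h3 : (b : G) ∈ W ⊓ centralizer (A : Set G) := by
          refine Subgroup.mem_inf.2 ⟨b.2, ?_⟩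
          rw [mem_centralizer_iff]
          intro t ht
          have h4 : t * (b : G) * t⁻¹ = b := congrArg Subtype.val (hb ⟨t, ht⟩)
          calc t * (b : G) = t * b * t⁻¹ * t := by group
            _ = b * t := by rw [h4]
        rw [hC, mem_bot] at h3
        exact Subtype.ext h3
      rintro ⟨a, ha⟩ ⟨b, hb⟩
      exact Subtype.ext ((key a ha).trans (key b hb).symm)
    · intro t
      apply Subtype.ext
      show (t : G) * ((1 : W) : G) * (t : G)⁻¹ = ((1 : W) : G)
      simp
  rwa [h2] at h1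

end Cfsg.Agent.H251
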